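import Mathlib.GroupTheory.GroupAction.Quotient
import Mathlib.GroupTheory.GroupAction.MultipleTransitivity
import Mathlib.Algebra.Order.BigOperators.Group.Finset
import Mathlib.Tactic.Ring
import Mathlib.Tactic.Linarith

/-! The second-moment identity for derangements in transitive groups (Cameron–Cohen). -/

set_option autoImplicit false

namespace CfsgLib.PermDerange

open MulAction

variable {G Ω : Type*} [Group G] [MulAction G Ω]

/-- The number of orbitals. -/
noncomputable def numOrbitals (G Ω : Type*) [Group G] [MulAction G Ω] : ℕ :=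
  Nat.card (orbitRel.Quotient G (Ω × Ω))

theorem card_fixedBy_prod (g : G) :
    Nat.card (fixedBy (Ω × Ω) g) = Nat.card (fixedBy Ω g) * Nat.card (fixedBy Ω g) := by
  rw [← Nat.card_prod]
  exact Nat.card_congr
    { toFun := fun x => (⟨x.1.1, congrArg Prod.fst x.2⟩, ⟨x.1.2, congrArg Prod.snd x.2⟩)
      invFun := fun x => ⟨(x.1.1, x.2.1), Prod.ext x.1.2 x.2.2⟩
      left_inv := fun x => rfl
      right_inv := fun x => rfl }

theorem sum_card_fixedBy [Fintype G] [Finite Ω] :
    ∑ g : G, Nat.card (fixedBy Ω g) = Nat.card (orbitRel.Quotient G Ω) * Nat.card G := by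
  classical
  haveI : Fintype Ω := Fintype.ofFinite Ω
  haveI : Fintype (orbitRel.Quotient G Ω) := Fintype.ofFinite _
  simp only [Nat.card_eq_fintype_card]
  exact sum_card_fixedBy_eq_card_orbits_mul_card_group G Ω

theorem card_orbits_of_transitive [IsPretransitive G Ω] [Nonempty Ω] :
    Nat.card (orbitRel.Quotient G Ω) = 1 := by
  rw [Nat.card_eq_one_iff_unique]
  exact ⟨(pretransitive_iff_subsingleton_quotient G Ω).1 inferInstance, ⟨Quotient.mk'' (Classical.arbitrary Ω)⟩⟩

theorem sum_card_fixedBy_transitive [Fintype G] [Finite Ω] [IsPretransitive G Ω] [Nonempty Ω] :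
    ∑ g : G, Nat.card (fixedBy Ω g) = Nat.card G := by
  rw [sum_card_fixedBy, card_orbits_of_transitive, one_mul]

theorem sum_sq_card_fixedBy [Fintype G] [Finite Ω] :
    ∑ g : G, Nat.card (fixedBy Ω g) * Nat.card (fixedBy Ω g) = numOrbitals G Ω * Nat.card G := by
  rw [numOrbitals, ← sum_card_fixedBy]
  exact Finset.sum_congr rfl fun g _ => (card_fixedBy_prod g).symm

theorem two_le_numOrbitals [Finite Ω] [Nontrivial Ω] : 2 ≤ numOrbitals G Ω := by
  obtain ⟨a, b, hab⟩ := exists_pair_ne Ω
  haveI : Nontrivial (orbitRel.Quotient G (Ω × Ω)) := by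
    refine ⟨⟨Quotient.mk'' (a, a), Quotient.mk'' (a, b), fun h => ?_⟩⟩
    obtain ⟨g, hg⟩ := orbitRel_apply.1 (Quotient.eq''.1 h)
    have h1 : g • a = a := congrArg Prod.fst hg
    have h2 : g • b = a := congrArg Prod.snd hg
    exact hab (MulAction.injective g (h1.trans h2.symm))
  exact Finite.one_lt_card

theorem pretransitive_pairs_of_numOrbitals [Finite Ω] (h : numOrbitals G Ω = 2)
    (a b c d : Ω) (hab : a ≠ b) (hcd : c ≠ d) : ∃ g : G, g • a = c ∧ g • b = d := by
  obtain ⟨x, y, hxy, huniv⟩ := Nat.card_eq_two_iff.1 h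
  have hdiag : ∀ u v : Ω, u ≠ v →
      (Quotient.mk'' (u, v) : orbitRel.Quotient G (Ω × Ω)) ≠ Quotient.mk'' (a, a) := by
    intro u v huv hq
    obtain ⟨g, hg⟩ := orbitRel_apply.1 (Quotient.eq''.1 hq)
    exact huv (((congrArg Prod.fst hg).symm).trans (congrArg Prod.snd hg))
  have key : (Quotient.mk'' (c, d) : orbitRel.Quotient G (Ω × Ω)) = Quotient.mk'' (a, b) := by
    have h1 := hdiag c d hcd
    have h2 := hdiag a b hab
    have m : ∀ z : orbitRel.Quotient G (Ω × Ω), z = x ∨ z = y := fun z => by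
      have : z ∈ ({x, y} : Set _) := huniv.symm ▸ Set.mem_univ z
      simpa using this
    rcases m (Quotient.mk'' (a, a)) with ha | ha <;> rcases m (Quotient.mk'' (c, d)) with hc | hc <;>
      rcases m (Quotient.mk'' (a, b)) with hb | hb
    all_goals first
      | exact hc.trans hb.symm
      | exact absurd (hc.trans ha.symm) h1
      | exact absurd (hb.trans ha.symm) h2
  obtain ⟨g, hg⟩ := orbitRel_apply.1 (Quotient.eq''.1 key)
  exact ⟨g, congrArg Prod.fst hg, congrArg Prod.snd hg⟩

/-- The excess `(π - 1) (n - π)` of a non-derangement, zero on derangements. -/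
noncomputable def excess (Ω : Type*) {G : Type*} [Group G] [MulAction G Ω] (g : G) : ℤ :=
  if Nat.card (fixedBy Ω g) = 0 then 0
  else ((Nat.card (fixedBy Ω g) : ℤ) - 1) * ((Nat.card Ω : ℤ) - (Nat.card (fixedBy Ω g) : ℤ))

theorem excess_nonneg [Finite Ω] (g : G) : 0 ≤ excess Ω g := by
  unfold excess
  split
  · exact le_rfl
  · next h =>
    apply mul_nonneg
    · omega
    · have := Nat.card_le_card_of_injective (fun x : fixedBy Ω g => (x : Ω)) Subtype.val_injective
      omega

theorem card_fixedBy_eq_zero_iff [Finite Ω] (g : G) :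
    Nat.card (fixedBy Ω g) = 0 ↔ ∀ ω : Ω, g • ω ≠ ω := by
  rw [Nat.card_eq_zero]
  simp only [isEmpty_subtype, mem_fixedBy, not_finite_iff_infinite, ne_eq]
  constructor
  · rintro (h | h)
    · exact h
    · exact absurd (inferInstance : Finite (fixedBy Ω g)) (not_finite_iff_infinite.2 h)
  · exact Or.inl

/-- `n · #derangements = (r - 1) |G| + ∑ excess`. -/
theorem derangement_identity [Fintype G] [Finite Ω] [IsPretransitive G Ω] [Nonempty Ω] :
    (Nat.card Ω : ℤ) * (Nat.card {g : G // ∀ ω : Ω, g • ω ≠ ω} : ℤ) =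
      ((numOrbitals G Ω : ℤ) - 1) * (Nat.card G : ℤ) + ∑ g : G, excess Ω g := by
  classical
  have hD : (Nat.card {g : G // ∀ ω : Ω, g • ω ≠ ω} : ℤ) =
      ∑ g : G, if Nat.card (fixedBy Ω g) = 0 then 1 else 0 := by
    rw [Finset.sum_boole, Nat.card_eq_fintype_card, Fintype.card_subtype]
    congr 2
    ext g
    simp only [Finset.mem_filter, Finset.mem_univ, true_and]
    exact (card_fixedBy_eq_zero_iff g).symm
  have h1 : ∀ g : G, (Nat.card Ω : ℤ) * (if Nat.card (fixedBy Ω g) = 0 then 1 else 0) - excess Ω g =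
      ((Nat.card (fixedBy Ω g) * Nat.card (fixedBy Ω g) : ℕ) : ℤ)
        - ((Nat.card Ω : ℤ) + 1) * (Nat.card (fixedBy Ω g) : ℤ) + (Nat.card Ω : ℤ) := by
    intro g
    unfold excess
    split <;> next h => first | (rw [h]; push_cast; ring) | (push_cast; ring)
  have h2 := Finset.sum_congr rfl (fun g (_ : g ∈ Finset.univ) => h1 g)
  simp only [Finset.sum_sub_distrib, Finset.sum_add_distrib, ← Finset.mul_sum, Finset.sum_const,
    Finset.card_univ, nsmul_eq_mul, ← Nat.cast_sum] at h2
  rw [sum_sq_card_fixedBy, sum_card_fixedBy_transitive, ← hD] at h2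
  rw [← Nat.card_eq_fintype_card (α := G)] at h2
  push_cast at h2
  linarith

end CfsgLib.PermDerange
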