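import Mathlib

/-! Singer groups: multiplications of a finite field extension inside the general linear group. -/

set_option autoImplicit false

namespace CfsgLib.Singer

variable {F K : Type*} [Field F] [Field K] [Algebra F K]

/-- The multiplication homomorphism into the invertible endomorphisms. -/
noncomputable def singerHom (F K : Type*) [Field F] [Field K] [Algebra F K] :
    Kˣ →* (Module.End F K)ˣ :=
  Units.map ((Algebra.lmul F K : K →ₐ[F] Module.End F K) : K →* Module.End F K)

theorem singerHom_apply (c : Kˣ) (z : K) : (singerHom F K c : Module.End F K) z = (c : K) * z := rfl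

theorem singerHom_injective : Function.Injective (singerHom F K) := by
  intro a b h
  have := congrArg (fun u : (Module.End F K)ˣ => (u : Module.End F K) 1) h
  simpa [singerHom_apply, Units.ext_iff] using this

theorem val_inv_apply (g : (Module.End F K)ˣ) (z : K) :
    (g : Module.End F K) ((g⁻¹ : (Module.End F K)ˣ).val z) = z :=
  LinearMap.congr_fun g.mul_inv z

theorem inv_val_apply (g : (Module.End F K)ˣ) (z : K) :
    (g⁻¹ : (Module.End F K)ˣ).val ((g : Module.End F K) z) = z :=
  LinearMap.congr_fun g.inv_mul z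

/-- The scalars that act as multiplications after conjugation by `g`. -/
noncomputable def conjAlg (g : (Module.End F K)ˣ) : Subalgebra F K where
  carrier := {x | ∃ y : K, ∀ z : K, x * (g : Module.End F K) z = (g : Module.End F K) (y * z)}
  mul_mem' := by
    rintro a b ⟨y, hy⟩ ⟨w, hw⟩
    exact ⟨y * w, fun z => by rw [mul_assoc, hw, hy, mul_assoc]⟩
  add_mem' := by
    rintro a b ⟨y, hy⟩ ⟨w, hw⟩
    exact ⟨y + w, fun z => by rw [add_mul, add_mul, hy, hw, map_add]⟩
  algebraMap_mem' c := ⟨algebraMap F K c, fun z => by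
    rw [← Algebra.smul_def, ← Algebra.smul_def, map_smul]⟩

theorem conjAlg_inv_mem (g : (Module.End F K)ˣ) {x : K} (hx : x ∈ conjAlg g) : x⁻¹ ∈ conjAlg g := by
  obtain ⟨y, hy⟩ := hx
  by_cases hx0 : x = 0
  · rw [hx0, inv_zero]; exact zero_mem _
  · have hy0 : y ≠ 0 := by
      rintro rfl
      have h := hy ((g⁻¹ : (Module.End F K)ˣ).val 1)
      rw [val_inv_apply, mul_one, zero_mul, map_zero] at h
      exact hx0 h
    refine ⟨y⁻¹, fun z => ?_⟩
    rw [inv_mul_eq_iff_eq_mul₀ hx0, hy, ← mul_assoc, mul_inv_cancel₀ hy0, one_mul]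

/-- The intermediate field of `conjAlg g`. -/
noncomputable def conjField (g : (Module.End F K)ˣ) : IntermediateField F K :=
  (conjAlg g).toIntermediateField fun _ hx => conjAlg_inv_mem g hx

theorem singerHom_mem_conj_iff (g : (Module.End F K)ˣ) (x : Kˣ) :
    singerHom F K x ∈ (singerHom F K).range.map (MulAut.conj g).toMonoidHom ↔
      (x : K) ∈ conjField g := by
  constructor
  · rintro ⟨_, ⟨y, rfl⟩, hy⟩
    refine ⟨(y : K), fun z => ?_⟩
    have h := congrArg (fun u : (Module.End F K)ˣ => (u : Module.End F K) ((g : Module.End F K) z)) hy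
    simp only [MulEquiv.coe_toMonoidHom, MulAut.conj_apply, Units.val_mul, Module.End.mul_apply,
      inv_val_apply, singerHom_apply] at h
    exact h.symm
  · rintro ⟨y, hy⟩
    have hy0 : y ≠ 0 := by
      rintro rfl
      have h := hy ((g⁻¹ : (Module.End F K)ˣ).val 1)
      rw [val_inv_apply, mul_one, zero_mul, map_zero] at h
      exact x.ne_zero h
    refine ⟨singerHom F K (Units.mk0 y hy0), ⟨_, rfl⟩, ?_⟩
    refine Units.ext (LinearMap.ext fun z => ?_)
    simp only [MulEquiv.coe_toMonoidHom, MulAut.conj_apply, Units.val_mul, Module.End.mul_apply,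
      singerHom_apply, Units.val_mk0]
    rw [← hy, val_inv_apply]

/-- The semilinear unit `z ↦ c * φ z`. -/
noncomputable def semiUnit (c : Kˣ) (φ : K ≃ₐ[F] K) : (Module.End F K)ˣ :=
  singerHom F K c * ⟨φ.toLinearMap, φ.symm.toLinearMap,
    LinearMap.ext fun z => φ.apply_symm_apply z, LinearMap.ext fun z => φ.symm_apply_apply z⟩

theorem semiUnit_apply (c : Kˣ) (φ : K ≃ₐ[F] K) (z : K) :
    (semiUnit c φ : Module.End F K) z = (c : K) * φ z := rfl

end CfsgLib.Singer
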