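import Mathlib.GroupTheory.Sylow
import Mathlib.GroupTheory.GroupAction.Quotient
import Mathlib.GroupTheory.OrderOfElement

/-! Orbits of Sylow subgroups of transitive groups. -/

set_option autoImplicit false

namespace CfsgLib.PermDerange

open MulAction

variable {G Ω : Type*} [Group G] [Finite G] [MulAction G Ω]

/-- A power of `p` dividing the degree divides every orbit size of a Sylow `p`-subgroup. -/
theorem pow_dvd_card_sylow_orbit [IsPretransitive G Ω] {p : ℕ} [Fact p.Prime] (P : Sylow p G)
    (v : ℕ) (hv : p ^ v ∣ Nat.card Ω) (α : Ω) :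
    p ^ v ∣ Nat.card (orbit (P : Subgroup G) α) := by
  haveI : Nonempty Ω := ⟨α⟩
  have h1 : Nat.card G = Nat.card Ω * Nat.card (stabilizer G α) := by
    rw [← index_stabilizer_of_transitive G α, Subgroup.index_mul_card]
  have h2 : Nat.card (stabilizer (P : Subgroup G) α) ∣ Nat.card (stabilizer G α) := by
    refine Subgroup.card_dvd_of_injective
      (((P : Subgroup G).subtype.comp (stabilizer (P : Subgroup G) α).subtype).codRestrict
        (stabilizer G α) fun x => x.2) ?_
    intro x y hxy
    exact Subtype.ext (Subtype.ext (congrArg (fun z : stabilizer G α => (z : G)) hxy))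
  obtain ⟨a, ha⟩ := (IsPGroup.iff_card).1 (P.isPGroup'.to_subgroup (stabilizer (P : Subgroup G) α))
  have h3 : p ^ (v + a) ∣ Nat.card G := by
    rw [pow_add, h1, ← ha]
    exact Nat.mul_dvd_mul hv h2
  have h4 : p ^ (v + a) ∣ Nat.card P := P.pow_dvd_card_of_pow_dvd_card h3
  have h5 : Nat.card P = Nat.card (orbit (P : Subgroup G) α) * Nat.card (stabilizer (P : Subgroup G) α) := by
    rw [Nat.card_congr (orbitEquivQuotientStabilizer (P : Subgroup G) α)]
    exact (Subgroup.card_eq_card_quotient_mul_card_subgroup _)
  rw [h5, ha, pow_add] at h4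
  exact Nat.dvd_of_mul_dvd_mul_right (pow_pos (Fact.out : p.Prime).pos a) h4

end CfsgLib.PermDerange
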