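import Mathlib
import Cfsg.Prelude.Def_Local
import Cfsg.Prelude.Def_Solvable
import Cfsg.Agent.Lib.Components.GenFitting

/-! The Thompson–Wielandt theorem on two conjugate core-free maximal subgroups. -/

set_option autoImplicit false

namespace CfsgLib.TW

open Subgroup CfsgLib.Components

variable {G : Type*} [Group G]

/-- `O_p(H)` inside `G`. -/
def mcore (p : ℕ) (H : Subgroup G) : Subgroup G := (Cfsg.pCore p H).map H.subtype

theorem mcore_le (p : ℕ) (H : Subgroup G) : mcore p H ≤ H := map_subtype_le _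

theorem mcore_isPGroup [Finite G] (p : ℕ) (H : Subgroup G) : IsPGroup p (mcore p H) :=
  (isPGroup_pCore p).map _

theorem le_mcore {p : ℕ} {H N : Subgroup G} (hNH : N ≤ H) (hn : H ≤ normalizer (N : Set G))
    (hp : IsPGroup p N) : N ≤ mcore p H := by
  rw [← map_subgroupOf_eq_of_le hNH]
  exact map_mono (le_pCore_of_normal ((normal_subgroupOf_iff_le_normalizer hNH).2 hn)
    (hp.of_equiv (subgroupOfEquivOfLe hNH).symm))

theorem normalizes_mcore_self (p : ℕ) (H : Subgroup G) :
    H ≤ normalizer ((mcore p H : Subgroup G) : Set G) := by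
  haveI : (Cfsg.pCore p H).Normal := Subgroup.sSup_normal _ fun _ h => h.1
  rw [← normal_subgroupOf_iff_le_normalizer (mcore_le p H)]
  rw [mcore, Subgroup.subgroupOf, comap_map_eq_self_of_injective H.subtype_injective]
  infer_instance

theorem normalizer_le_normalizer_mcore [Finite G] (p : ℕ) (K : Subgroup G) :
    normalizer (K : Set G) ≤ normalizer ((mcore p K : Subgroup G) : Set G) := by
  intro g hg
  rw [mem_normalizer_iff_map_conj_eq] at hg ⊢
  refine Subgroup.eq_of_le_of_card_ge ?_ (card_map_of_injective (MulEquiv.injective _)).ge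
  refine le_mcore ((map_mono (mcore_le p K)).trans hg.le) ?_ ((mcore_isPGroup p K).map _)
  have h := map_mono (f := (MulAut.conj g).toMonoidHom) (normalizes_mcore_self p K)
  simp only [MulEquiv.toMonoidHom_eq_coe] at h
  rw [hg] at h
  exact h.trans (le_normalizer_map _)

theorem mcore_mono [Finite G] {p : ℕ} {K H : Subgroup G} (hKH : K ≤ H)
    (hn : H ≤ normalizer (K : Set G)) : mcore p K ≤ mcore p H :=
  le_mcore ((mcore_le p K).trans hKH) (hn.trans (normalizer_le_normalizer_mcore p K))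
    (mcore_isPGroup p K)

theorem normalizer_le_normalizer_centralizer' (A : Subgroup G) :
    normalizer (A : Set G) ≤ normalizer ((centralizer (A : Set G) : Subgroup G) : Set G) := by
  intro g hg
  have key : ∀ h : G, h ∈ normalizer (A : Set G) → ∀ x, x ∈ centralizer (A : Set G) →
      h * x * h⁻¹ ∈ centralizer (A : Set G) := by
    intro h hh x hx a ha
    have h1 : h⁻¹ * a * h ∈ A := by
      have := (Subgroup.mem_normalizer_iff.1 (inv_mem hh) a).1 ha
      simpa using this
    have h2 := hx _ h1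
    calc a * (h * x * h⁻¹) = h * ((h⁻¹ * a * h) * x) * h⁻¹ := by group
      _ = h * (x * (h⁻¹ * a * h)) * h⁻¹ := by rw [h2]
      _ = h * x * h⁻¹ * a := by group
  rw [Subgroup.mem_normalizer_iff]
  intro x
  refine ⟨key g hg x, fun hx => ?_⟩
  have := key g⁻¹ (inv_mem hg) _ hx
  simpa [mul_assoc] using this

theorem normalizer_inf_le' (A B : Subgroup G) :
    normalizer (A : Set G) ⊓ normalizer (B : Set G) ≤ normalizer ((A ⊓ B : Subgroup G) : Set G) := by
  intro g hg
  rw [Subgroup.mem_normalizer_iff]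
  intro x
  exact ⟨fun hx => ⟨(Subgroup.mem_normalizer_iff.1 hg.1 x).1 hx.1, (Subgroup.mem_normalizer_iff.1 hg.2 x).1 hx.2⟩,
    fun hx => ⟨(Subgroup.mem_normalizer_iff.1 hg.1 x).2 hx.1, (Subgroup.mem_normalizer_iff.1 hg.2 x).2 hx.2⟩⟩

theorem commutator_le_inf' {A B : Subgroup G} (h1 : A ≤ normalizer (B : Set G))
    (h2 : B ≤ normalizer (A : Set G)) : ⁅A, B⁆ ≤ A ⊓ B := by
  rw [commutator_le]
  intro a ha b hb
  constructor
  · have := (Subgroup.mem_normalizer_iff.1 (h2 hb) a⁻¹).1 (A.inv_mem ha)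
    have h := A.mul_mem ha this
    rwa [commutatorElement_def, mul_assoc, mul_assoc, ← mul_assoc b]
  · have := (Subgroup.mem_normalizer_iff.1 (h1 ha) b).1 hb
    rw [commutatorElement_def]
    exact B.mul_mem this (B.inv_mem hb)

theorem mcore_le_centralizer [Finite G] {p q : ℕ} [Fact p.Prime] [Fact q.Prime] (hne : p ≠ q)
    {H K : Subgroup G} (h1 : mcore p H ≤ normalizer ((mcore q K : Subgroup G) : Set G))
    (h2 : mcore q K ≤ normalizer ((mcore p H : Subgroup G) : Set G)) :
    mcore p H ≤ centralizer (mcore q K : Set G) := by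
  rw [← commutator_eq_bot_iff_le_centralizer, eq_bot_iff]
  exact (commutator_le_inf' h1 h2).trans
    (IsPGroup.disjoint_of_ne p q hne _ _ (mcore_isPGroup p H) (mcore_isPGroup q K)).le_bot

/-- A coprime element of `A ⊔ W`, with `W` a `p`-group normalising `A`, lies in `A`. -/
theorem mem_of_coprime_sup [Finite G] {p : ℕ} [hp : Fact p.Prime] {A W : Subgroup G}
    (hW : IsPGroup p W) (hn : W ≤ normalizer (A : Set G)) {x : G} (hx : x ∈ A ⊔ W)
    (hcop : (orderOf x).Coprime p) : x ∈ A := by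
  set K := A ⊔ W with hK
  haveI : (A.subgroupOf K).Normal :=
    (normal_subgroupOf_iff_le_normalizer le_sup_left).2 (sup_le le_normalizer hn)
  let f := (QuotientGroup.mk' (A.subgroupOf K)).comp (inclusion (le_sup_right : W ≤ K))
  have hf : Function.Surjective f := by
    intro z
    obtain ⟨⟨y, hy⟩, rfl⟩ := QuotientGroup.mk'_surjective _ z
    have hy' : y ∈ ((A ⊔ W : Subgroup G) : Set G) := hy
    rw [sup_comm, coe_mul_of_left_le_normalizer_right W A hn] at hy'
    obtain ⟨w, hw, a, ha, hwa⟩ := hy'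
    refine ⟨⟨w, hw⟩, ?_⟩
    simp only [f, MonoidHom.comp_apply, QuotientGroup.mk'_apply]
    rw [QuotientGroup.eq]
    change w⁻¹ * y ∈ A
    rw [← hwa]
    simpa using ha
  have hq : IsPGroup p (K ⧸ A.subgroupOf K) := hW.of_surjective f hf
  obtain ⟨k, hk⟩ := (IsPGroup.iff_orderOf.1 hq) (QuotientGroup.mk' _ ⟨x, hx⟩)
  have hd : orderOf (QuotientGroup.mk' (A.subgroupOf K) ⟨x, hx⟩) ∣ orderOf x := by
    rw [show orderOf x = orderOf (⟨x, hx⟩ : K) from (Subgroup.orderOf_mk x hx).symm]
    exact orderOf_map_dvd _ _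
  rw [hk] at hd
  have : p ^ k = 1 := by
    have h3 : p ^ k ∣ Nat.gcd (orderOf x) (p ^ k) := Nat.dvd_gcd hd dvd_rfl
    rw [(Nat.Coprime.pow_right k hcop).gcd_eq_one] at h3
    exact Nat.dvd_one.1 h3
  rw [this, orderOf_eq_one_iff, QuotientGroup.mk'_apply, QuotientGroup.eq_one_iff] at hk
  exact hk

/-- `X` is a component of `H`, as subgroups of `G`. -/
def CompIn (X H : Subgroup G) : Prop := X ≤ H ∧ Cfsg.IsComponent (X.subgroupOf H)

theorem CompIn.restrict {X H K : Subgroup G} (h : CompIn X H) (hXK : X ≤ K) (hKH : K ≤ H) :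
    CompIn X K := by
  refine ⟨hXK, ?_, ?_⟩
  · exact h.2.1.comap (inclusion hKH)
  · exact (quasisimple_congr ((subgroupOfEquivOfLe h.1).trans (subgroupOfEquivOfLe hXK).symm)).1 h.2.2

theorem CompIn.extend {X H K : Subgroup G} (h : CompIn X K) (hKH : K ≤ H)
    (hn : H ≤ normalizer (K : Set G)) : CompIn X H := by
  refine ⟨h.1.trans hKH, ?_, ?_⟩
  · refine IsSubnormal.trans (K := K.subgroupOf H) (fun x hx => h.1 hx) ?_
      ((normal_subgroupOf_iff_le_normalizer hKH).2 hn).isSubnormal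
    exact h.2.1.comap (subgroupOfEquivOfLe hKH).toMonoidHom
  · exact (quasisimple_congr ((subgroupOfEquivOfLe h.1).trans
      (subgroupOfEquivOfLe (h.1.trans hKH)).symm)).1 h.2.2

theorem CompIn.le_or_commutator [Finite G] {X H N : Subgroup G} (h : CompIn X H) (hNH : N ≤ H)
    (hn : H ≤ normalizer (N : Set G)) : X ≤ N ∨ ⁅X, N⁆ = ⊥ := by
  rcases component_le_or_commutator_normal h.2 ((normal_subgroupOf_iff_le_normalizer hNH).2 hn) with h1 | h1
  · exact Or.inl fun x hx => h1 (show (⟨x, h.1 hx⟩ : H) ∈ X.subgroupOf H from hx)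
  · exact Or.inr ((commutator_subgroupOf_eq_bot_iff h.1 hNH).1 h1)

/-- Two core-free maximal subgroups with their first two cores. -/
structure Setup (M N A1 B1 A2 B2 : Subgroup G) : Prop where
  maxM : IsCoatom M
  maxN : IsCoatom N
  ne : M ≠ N
  coreM : M.normalCore = ⊥
  coreN : N.normalCore = ⊥
  iso : Nonempty (M ≃* N)
  leA1 : A1 ≤ M ⊓ N
  leB1 : B1 ≤ M ⊓ N
  leA2 : A2 ≤ A1 ⊓ B1
  leB2 : B2 ≤ A1 ⊓ B1
  normA1 : M ≤ normalizer (A1 : Set G)
  normB1 : N ≤ normalizer (B1 : Set G)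
  normA2 : M ≤ normalizer (A2 : Set G)
  normB2 : N ≤ normalizer (B2 : Set G)
  univA1 : ∀ X : Subgroup G, X ≤ M ⊓ N → M ≤ normalizer (X : Set G) → X ≤ A1
  univB1 : ∀ X : Subgroup G, X ≤ M ⊓ N → N ≤ normalizer (X : Set G) → X ≤ B1
  univA2 : ∀ X : Subgroup G, X ≤ A1 ⊓ B1 → M ≤ normalizer (X : Set G) → X ≤ A2
  univB2 : ∀ X : Subgroup G, X ≤ A1 ⊓ B1 → N ≤ normalizer (X : Set G) → X ≤ B2
  neA2 : A2 ≠ ⊥
  neB2 : B2 ≠ ⊥

namespace Setup

variable {M N A1 B1 A2 B2 : Subgroup G}

theorem symm (S : Setup M N A1 B1 A2 B2) : Setup N M B1 A1 B2 A2 where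
  maxM := S.maxN
  maxN := S.maxM
  ne := S.ne.symm
  coreM := S.coreN
  coreN := S.coreM
  iso := S.iso.map MulEquiv.symm
  leA1 := S.leB1.trans (inf_comm M N).le
  leB1 := S.leA1.trans (inf_comm M N).le
  leA2 := S.leB2.trans (inf_comm A1 B1).le
  leB2 := S.leA2.trans (inf_comm A1 B1).le
  normA1 := S.normB1
  normB1 := S.normA1
  normA2 := S.normB2
  normB2 := S.normA2
  univA1 X hX := S.univB1 X (hX.trans (inf_comm N M).le)
  univB1 X hX := S.univA1 X (hX.trans (inf_comm N M).le)
  univA2 X hX := S.univB2 X (hX.trans (inf_comm B1 A1).le)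
  univB2 X hX := S.univA2 X (hX.trans (inf_comm B1 A1).le)
  neA2 := S.neB2
  neB2 := S.neA2

theorem normalizer_eq (S : Setup M N A1 B1 A2 B2) {X : Subgroup G} (hne : X ≠ ⊥) (hle : X ≤ M)
    (hn : M ≤ normalizer (X : Set G)) : normalizer (X : Set G) = M := by
  refine (S.maxM.le_iff.1 hn).resolve_left fun htop => hne ?_
  haveI : X.Normal := normalizer_eq_top_iff.1 htop
  rw [eq_bot_iff, ← S.coreM]
  exact normal_le_normalCore.2 hle

theorem eq_bot_of_both (S : Setup M N A1 B1 A2 B2) {X : Subgroup G} (hle : X ≤ M)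
    (hM : M ≤ normalizer (X : Set G)) (hN : N ≤ normalizer (X : Set G)) : X = ⊥ := by
  by_contra hne
  have h := hN.trans (S.normalizer_eq hne hle hM).le
  exact S.ne ((S.maxN.le_iff.1 h).resolve_left S.maxM.ne_top)

theorem neA1 (S : Setup M N A1 B1 A2 B2) : A1 ≠ ⊥ :=
  ne_bot_of_le_ne_bot S.neA2 (S.leA2.trans inf_le_left)

theorem leM (S : Setup M N A1 B1 A2 B2) : A1 ≤ M ∧ B1 ≤ M ∧ A2 ≤ M ∧ B2 ≤ M :=
  ⟨S.leA1.trans inf_le_left, S.leB1.trans inf_le_left,
    (S.leA2.trans inf_le_left).trans (S.leA1.trans inf_le_left),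
    (S.leB2.trans inf_le_left).trans (S.leA1.trans inf_le_left)⟩

theorem leN (S : Setup M N A1 B1 A2 B2) : A1 ≤ N ∧ B1 ≤ N ∧ A2 ≤ N ∧ B2 ≤ N :=
  ⟨S.symm.leM.2.1, S.symm.leM.1, S.symm.leM.2.2.2, S.symm.leM.2.2.1⟩

theorem centralizer_A1_le (S : Setup M N A1 B1 A2 B2) : centralizer (A1 : Set G) ≤ A1 := by
  refine S.univA1 _ (le_inf ?_ ?_) (S.normA1.trans (normalizer_le_normalizer_centralizer' A1))
  · exact (centralizer_le_normalizer _).trans (S.normalizer_eq S.neA1 S.leM.1 S.normA1).le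
  · exact ((centralizer_le (S.leB2.trans inf_le_left)).trans (centralizer_le_normalizer _)).trans
      (S.symm.normalizer_eq S.neB2 S.leN.2.2.2 S.normB2).le

variable [Finite G]

theorem comp_le (S : Setup M N A1 B1 A2 B2) {X : Subgroup G} (hX : CompIn X M) :
    X ≤ A1 ∧ X ≤ B1 := by
  have hperf : ⁅X, X⁆ = X := by
    have h := congrArg (Subgroup.map M.subtype) (component_commutator_self hX.2)
    rwa [map_commutator, map_subgroupOf_eq_of_le hX.1] at h
  have hA : X ≤ A1 := by
    rcases hX.le_or_commutator S.leM.1 S.normA1 with h | h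
    · exact h
    · exact (commutator_eq_bot_iff_le_centralizer.1 h).trans S.centralizer_A1_le
  have hAB : A1 ≤ normalizer (B1 : Set G) := S.leN.1.trans S.normB1
  have hBA : B1 ≤ normalizer (A1 : Set G) := S.leM.2.1.trans S.normA1
  rcases (hX.restrict hA S.leM.1).le_or_commutator (N := A1 ⊓ B1) inf_le_left
      ((le_inf le_normalizer hAB).trans (normalizer_inf_le' A1 B1)) with h | h
  · exact ⟨hA, h.trans inf_le_right⟩
  · have h1 : ⁅X, B1⁆ = ⊥ := by
      refine commutator_eq_bot_of_perfect hperf (eq_bot_iff.2 ?_)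
      calc ⁅⁅X, B1⁆, X⁆ ≤ ⁅A1 ⊓ B1, X⁆ :=
            commutator_mono ((commutator_mono hA le_rfl).trans (commutator_le_inf' hAB hBA)) le_rfl
        _ = ⊥ := by rw [commutator_comm, h]
    exact ⟨hA, (commutator_eq_bot_iff_le_centralizer.1 h1).trans S.symm.centralizer_A1_le⟩

theorem layer_le (S : Setup M N A1 B1 A2 B2) :
    (Cfsg.layer M).map M.subtype ≤ (Cfsg.layer N).map N.subtype := by
  rw [map_le_iff_le_comap]
  refine sSup_le fun L hL => ?_
  rw [← map_le_iff_le_comap]
  have hX : CompIn (L.map M.subtype) M := by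
    refine ⟨map_subtype_le _, ?_⟩
    rwa [Subgroup.subgroupOf, comap_map_eq_self_of_injective M.subtype_injective]
  obtain ⟨h1, h2⟩ := S.comp_le hX
  have h3 : CompIn (L.map M.subtype) N :=
    ((hX.restrict (le_inf h1 h2) (inf_le_left.trans S.leM.1)).extend inf_le_right
      ((le_inf (S.leM.2.1.trans S.normA1) le_normalizer).trans (normalizer_inf_le' A1 B1))).extend
      S.leN.2.1 S.normB1
  rw [← map_subgroupOf_eq_of_le h3.1]
  exact map_mono (component_le_layer h3.2)

omit [Finite G] in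
theorem normalizes_map_char {H : Subgroup G} (K : Subgroup H) [K.Normal] :
    H ≤ normalizer ((K.map H.subtype : Subgroup G) : Set G) := by
  rw [← normal_subgroupOf_iff_le_normalizer (map_subtype_le _), Subgroup.subgroupOf,
    comap_map_eq_self_of_injective H.subtype_injective]
  infer_instance

theorem layer_M (S : Setup M N A1 B1 A2 B2) : Cfsg.layer M = ⊥ := by
  obtain ⟨e⟩ := S.iso
  have heq : (Cfsg.layer M).map M.subtype = (Cfsg.layer N).map N.subtype := by
    refine Subgroup.eq_of_le_of_card_ge S.layer_le ?_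
    rw [card_map_of_injective M.subtype_injective, card_map_of_injective N.subtype_injective,
      ← layer_map_equiv e, card_map_of_injective (f := e.toMonoidHom) e.injective]
  have hbot : (Cfsg.layer M).map M.subtype = ⊥ :=
    S.eq_bot_of_both (map_subtype_le _) (normalizes_map_char _) (heq ▸ normalizes_map_char _)
  exact (map_eq_bot_iff_of_injective _ M.subtype_injective).1 hbot

theorem layer_normal_sub (S : Setup M N A1 B1 A2 B2) {X : Subgroup G} (hXM : X ≤ M)
    (hn : M ≤ normalizer (X : Set G)) : Cfsg.layer X = ⊥ := by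
  have hN := (normal_subgroupOf_iff_le_normalizer hXM).2 hn
  have h1 := layer_subnormal_le hN.isSubnormal
  rw [S.layer_M, le_bot_iff, map_eq_bot_iff_of_injective _ (X.subgroupOf M).subtype_injective] at h1
  rw [← layer_map_equiv (subgroupOfEquivOfLe hXM), h1, Subgroup.map_bot]

theorem exists_prime_A2 (S : Setup M N A1 B1 A2 B2) :
    ∃ p : ℕ, p.Prime ∧ mcore p A2 ≠ ⊥ := by
  by_contra hcon
  push Not at hcon
  haveI : Nontrivial A2 := (nontrivial_iff_ne_bot _).2 S.neA2
  apply genFitting_ne_bot (G := A2)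
  rw [genFitting_eq_fitting_of_layer_eq_bot (S.layer_normal_sub S.leM.2.2.1 S.normA2), eq_bot_iff]
  exact fitting_le_of_pCore_le fun p hp =>
    ((map_eq_bot_iff_of_injective _ A2.subtype_injective).1 (hcon p hp)).le

theorem mcore_A1_le (S : Setup M N A1 B1 A2 B2) {p q : ℕ} [Fact p.Prime] [Fact q.Prime]
    (hne : q ≠ p) (hp : mcore p A2 ≠ ⊥) : mcore q A1 ≤ mcore q A2 := by
  have hAW : mcore p A2 ≤ mcore p B1 :=
    mcore_mono (S.leA2.trans inf_le_right) (S.leM.2.1.trans S.normA2)
  have hTn : M ≤ normalizer ((mcore q A1 : Subgroup G) : Set G) :=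
    S.normA1.trans (normalizer_le_normalizer_mcore q A1)
  have hWn : N ≤ normalizer ((mcore p B1 : Subgroup G) : Set G) :=
    S.normB1.trans (normalizer_le_normalizer_mcore p B1)
  have hWne : mcore p B1 ≠ ⊥ := ne_bot_of_le_ne_bot hp hAW
  have hC : centralizer (mcore p B1 : Set G) ≤ B1 := by
    refine S.univB1 _ (le_inf ?_ ?_) (hWn.trans (normalizer_le_normalizer_centralizer' _))
    · exact ((centralizer_le hAW).trans (centralizer_le_normalizer _)).trans
        (S.normalizer_eq hp ((mcore_le p A2).trans S.leM.2.2.1)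
          (S.normA2.trans (normalizer_le_normalizer_mcore p A2))).le
    · exact (centralizer_le_normalizer _).trans
        (S.symm.normalizer_eq hWne ((mcore_le p B1).trans S.leN.2.1) hWn).le
  have hT : mcore q A1 ≤ B1 :=
    (mcore_le_centralizer hne (((mcore_le q A1).trans S.leN.1).trans hWn)
      (((mcore_le p B1).trans S.leM.2.1).trans hTn)).trans hC
  exact le_mcore (S.univA2 _ (le_inf (mcore_le q A1) hT) hTn)
    (S.leM.2.2.1.trans hTn) (mcore_isPGroup q A1)

theorem prime_B2 (S : Setup M N A1 B1 A2 B2) {p : ℕ} [Fact p.Prime] (hp : mcore p A2 ≠ ⊥) :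
    mcore p B2 ≠ ⊥ := by
  obtain ⟨q, hq, hqB⟩ := S.symm.exists_prime_A2
  haveI := Fact.mk hq
  by_cases h : p = q
  · rwa [h]
  · -- `p` divides via `A1`
    have h1 : mcore p B1 ≤ mcore p B2 := S.symm.mcore_A1_le h hqB
    exact ne_bot_of_le_ne_bot hp
      ((mcore_mono (S.leA2.trans inf_le_right) (S.leM.2.1.trans S.normA2)).trans h1)

theorem mcore_M_bot (S : Setup M N A1 B1 A2 B2) {p q : ℕ} [Fact p.Prime] [Fact q.Prime]
    (hne : q ≠ p) (hp : mcore p A2 ≠ ⊥) : mcore q M = ⊥ := by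
  have hpB := S.prime_B2 hp
  have hBA : mcore p B2 ≤ mcore p A1 :=
    mcore_mono (S.leB2.trans inf_le_left) (S.leN.1.trans S.normB2)
  have hRn : M ≤ normalizer ((mcore q M : Subgroup G) : Set G) := normalizes_mcore_self q M
  have hRN : mcore q M ≤ N := by
    refine (mcore_le_centralizer hne (K := A1) ?_ ?_).trans
      (((centralizer_le hBA).trans (centralizer_le_normalizer _)).trans
        (S.symm.normalizer_eq hpB ((mcore_le p B2).trans S.leN.2.2.2)
          (S.normB2.trans (normalizer_le_normalizer_mcore p B2))).le)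
    · exact (mcore_le q M).trans (S.normA1.trans (normalizer_le_normalizer_mcore p A1))
    · exact ((mcore_le p A1).trans S.leM.1).trans hRn
  have hRA : mcore q M ≤ A1 := S.univA1 _ (le_inf (mcore_le q M) hRN) hRn
  have hRA2 : mcore q M ≤ A2 :=
    (le_mcore hRA (S.leM.1.trans hRn) (mcore_isPGroup q M)).trans
      ((S.mcore_A1_le hne hp).trans (mcore_le q A2))
  have hle : mcore q M ≤ mcore q N :=
    (le_mcore (hRA2.trans (S.leA2.trans inf_le_right)) (S.leM.2.1.trans hRn) (mcore_isPGroup q M)).trans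
      (mcore_mono S.leN.2.1 S.normB1)
  obtain ⟨e⟩ := S.iso
  have heq : mcore q M = mcore q N := by
    refine Subgroup.eq_of_le_of_card_ge hle ?_
    rw [mcore, mcore, card_map_of_injective M.subtype_injective,
      card_map_of_injective N.subtype_injective, ← pCore_map_equiv q e,
      card_map_of_injective (f := e.toMonoidHom) e.injective]
  exact S.eq_bot_of_both (mcore_le q M) hRn (heq ▸ normalizes_mcore_self q N)

theorem genFitting_M (S : Setup M N A1 B1 A2 B2) {p : ℕ} [Fact p.Prime] (hp : mcore p A2 ≠ ⊥) :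
    Cfsg.generalizedFittingSubgroup M = Cfsg.pCore p M := by
  rw [genFitting_eq_pCore_iff_criterion]
  refine ⟨S.layer_M, fun q hq hne => ?_⟩
  haveI := Fact.mk hq
  exact (map_eq_bot_iff_of_injective _ M.subtype_injective).1 (S.mcore_M_bot hne hp)

theorem genFitting_A1 (S : Setup M N A1 B1 A2 B2) {p : ℕ} [Fact p.Prime] (hp : mcore p A2 ≠ ⊥) :
    Cfsg.generalizedFittingSubgroup A1 = Cfsg.pCore p A1 := by
  rw [genFitting_eq_pCore_iff_criterion]
  refine ⟨S.layer_normal_sub S.leM.1 S.normA1, fun q hq hne => ?_⟩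
  haveI := Fact.mk hq
  refine (map_eq_bot_iff_of_injective _ A1.subtype_injective).1 (le_bot_iff.1 ?_)
  rw [← S.mcore_M_bot hne hp]
  exact mcore_mono S.leM.1 S.normA1

theorem isPGroup_A2 (S : Setup M N A1 B1 A2 B2) {p : ℕ} [hpf : Fact p.Prime] (hp : mcore p A2 ≠ ⊥) :
    IsPGroup p A2 := by
  classical
  set gens : Set G := {u | u ∈ A2 ∧ (orderOf u).Coprime p} with hgens
  by_cases htriv : ∀ u ∈ gens, u = 1
  · rw [IsPGroup.iff_card]
    refine ⟨_, Nat.eq_prime_pow_of_unique_prime_dvd Nat.card_pos.ne' fun {d} hd hdvd => ?_⟩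
    by_contra hne
    haveI := Fact.mk hd
    obtain ⟨u, hu⟩ := exists_prime_orderOf_dvd_card' d hdvd
    have h1 := htriv (u : G) ⟨u.2, by
      rw [Subgroup.orderOf_coe, hu]; exact (Nat.coprime_primes hd hpf.out).2 hne⟩
    rw [OneMemClass.coe_eq_one] at h1
    rw [h1, orderOf_one] at hu
    exact hd.one_lt.ne hu
  exfalso
  push Not at htriv
  obtain ⟨u0, hu0, hu0ne⟩ := htriv
  set U := closure gens with hU
  have hUne : U ≠ ⊥ := fun h => hu0ne (mem_bot.1 (h ▸ subset_closure hu0))
  have hUA : U ≤ A2 := (closure_le _).2 fun u hu => hu.1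
  -- membership in the normalizer of `U`
  have hnorm : ∀ a : G, (∀ u ∈ gens, a * u * a⁻¹ ∈ A2) → a ∈ normalizer (U : Set G) := by
    intro a ha
    rw [mem_normalizer_iff_map_conj_eq]
    refine Subgroup.eq_of_le_of_card_ge ?_ (card_map_of_injective (MulEquiv.injective _)).ge
    rw [hU, MonoidHom.map_closure, closure_le]
    rintro _ ⟨u, hu, rfl⟩
    refine subset_closure ⟨ha u hu, ?_⟩
    change (orderOf (MulAut.conj a u)).Coprime p
    rw [MulEquiv.orderOf_eq]
    exact hu.2
  have hUn : M ≤ normalizer (U : Set G) := fun a ha => hnorm a fun u hu =>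
    (Subgroup.mem_normalizer_iff.1 (S.normA2 ha) u).1 hu.1
  have hNU : normalizer (U : Set G) = M := S.normalizer_eq hUne (hUA.trans S.leM.2.2.1) hUn
  set P1 := mcore p M with hP1
  set P2 := mcore p N with hP2
  set W := mcore p B1 with hW
  have hWn : N ≤ normalizer (W : Set G) := S.normB1.trans (normalizer_le_normalizer_mcore p B1)
  have hP2n : N ≤ normalizer (P2 : Set G) := normalizes_mcore_self p N
  have hP1n : M ≤ normalizer (P1 : Set G) := normalizes_mcore_self p M
  have hP2B : P2 ⊓ B1 ≤ W := le_mcore inf_le_right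
    ((le_inf (S.leN.2.1.trans hP2n) le_normalizer).trans (normalizer_inf_le' P2 B1))
    ((mcore_isPGroup p N).to_le inf_le_left)
  have hP1B : P1 ⊓ B1 ≤ W := le_mcore inf_le_right
    ((le_inf (S.leM.2.1.trans hP1n) le_normalizer).trans (normalizer_inf_le' P1 B1))
    ((mcore_isPGroup p M).to_le inf_le_left)
  -- `P2` normalizes `U`
  have hP2M : P2 ≤ M := by
    intro a ha
    rw [← hNU]
    refine hnorm a fun u hu => ?_
    have hu1 : u ∈ B1 := (S.leA2 hu.1).2
    have haN : a ∈ N := mcore_le p N ha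
    have hw : a * u * a⁻¹ * u⁻¹ ∈ W := by
      apply hP2B
      constructor
      · have h1 := (Subgroup.mem_normalizer_iff.1 (hP2n (S.leN.2.1 hu1)) a⁻¹).1 (P2.inv_mem ha)
        have h2 := P2.mul_mem ha h1
        simpa [mul_assoc] using h2
      · exact B1.mul_mem ((Subgroup.mem_normalizer_iff.1 (S.normB1 haN) u).1 hu1) (B1.inv_mem hu1)
    refine mem_of_coprime_sup (mcore_isPGroup p B1) ((mcore_le p B1).trans (S.leM.2.1.trans S.normA2)) ?_ ?_
    · have h3 := (A2 ⊔ W).mul_mem (mem_sup_right hw) (mem_sup_left hu.1)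
      simpa using h3
    · have := MulEquiv.orderOf_eq (MulAut.conj a) u
      rw [MulAut.conj_apply] at this
      rw [this]; exact hu.2
  have hP2B1 : P2 ≤ B1 := S.univB1 _ (le_inf hP2M (mcore_le p N)) hP2n
  have hWP2 : W ≤ P2 := mcore_mono S.leN.2.1 S.normB1
  -- `P1 ⊓ N ≤ P2`
  have hR : P1 ⊓ N ≤ P2 := by
    set X := closure {z : G | ∃ r ∈ P1 ⊓ N, ∃ m ∈ N, z = m * r * m⁻¹} with hX
    have hXN : X ≤ N := by
      rw [hX, closure_le]
      rintro _ ⟨r, hr, m, hm, rfl⟩
      exact N.mul_mem (N.mul_mem hm hr.2) (N.inv_mem hm)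
    have hXM : X ≤ M := by
      rw [hX, closure_le]
      rintro z ⟨r, hr, m, hm, rfl⟩
      change m * r * m⁻¹ ∈ M
      rw [← hNU]
      refine hnorm _ fun u hu => ?_
      have hu1 : u ∈ B1 := (S.leA2 hu.1).2
      have hb : m⁻¹ * u * m ∈ B1 := by
        have := (Subgroup.mem_normalizer_iff.1 (S.normB1 (N.inv_mem hm)) u).1 hu1
        simpa using this
      have hw : r * (m⁻¹ * u * m) * r⁻¹ * (m⁻¹ * u * m)⁻¹ ∈ P2 := by
        refine hWP2 (hP1B ⟨?_, ?_⟩)
        · have h1 := (Subgroup.mem_normalizer_iff.1 (hP1n (S.leM.2.1 hb)) r⁻¹).1 (P1.inv_mem hr.1)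
          have h2 := P1.mul_mem hr.1 h1
          simpa [mul_assoc] using h2
        · exact B1.mul_mem ((Subgroup.mem_normalizer_iff.1 (S.normB1 hr.2) _).1 hb) (B1.inv_mem hb)
      have hw' : (m * r * m⁻¹) * u * (m * r * m⁻¹)⁻¹ * u⁻¹ ∈ P2 := by
        have h1 := (Subgroup.mem_normalizer_iff.1 (hP2n hm) _).1 hw
        simpa [mul_assoc] using h1
      refine mem_of_coprime_sup (mcore_isPGroup p N) (hP2M.trans S.normA2) ?_ ?_
      · have h3 := (A2 ⊔ P2).mul_mem (mem_sup_right hw') (mem_sup_left hu.1)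
        rwa [inv_mul_cancel_right] at h3
      · have := MulEquiv.orderOf_eq (MulAut.conj (m * r * m⁻¹)) u
        rw [MulAut.conj_apply] at this
        rw [this]; exact hu.2
    have hXn : N ≤ normalizer (X : Set G) := by
      intro c hc
      rw [mem_normalizer_iff_map_conj_eq]
      refine Subgroup.eq_of_le_of_card_ge ?_ (card_map_of_injective (MulEquiv.injective _)).ge
      rw [hX, MonoidHom.map_closure, closure_le]
      rintro _ ⟨_, ⟨r, hr, m, hm, rfl⟩, rfl⟩
      exact subset_closure ⟨r, hr, c * m, N.mul_mem hc hm, by simp [mul_assoc]⟩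
    intro r hr
    exact hWP2 (hP1B ⟨hr.1, S.univB1 X (le_inf hXM hXN) hXn
      (subset_closure ⟨r, hr, 1, N.one_mem, by simp⟩)⟩)
  have hP2ne : P2 ≠ ⊥ := ne_bot_of_le_ne_bot hp
    ((mcore_mono (S.leA2.trans inf_le_right) (S.leM.2.1.trans S.normA2)).trans hWP2)
  have hNP2 : normalizer (P2 : Set G) = N := S.symm.normalizer_eq hP2ne (mcore_le p N) hP2n
  set Q := P1 ⊔ P2 with hQ
  have hQp : IsPGroup p Q := (mcore_isPGroup p M).to_sup_of_normal_left' (mcore_isPGroup p N) (hP2M.trans hP1n)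
  haveI : Group.IsNilpotent Q := hQp.isNilpotent
  have htop : P2.subgroupOf Q = ⊤ := by
    refine normalizerCondition_iff_only_full_group_self_normalizing.1
      Group.normalizerCondition_of_isNilpotent _ (le_antisymm (fun x hx => ?_) le_normalizer)
    have hxN : (x : G) ∈ N := by
      rw [← hNP2, Subgroup.mem_normalizer_iff]
      intro z
      constructor
      · intro hz
        exact (Subgroup.mem_normalizer_iff.1 hx ⟨z, (le_sup_right : P2 ≤ Q) hz⟩).1 hz
      · intro hz
        have hzQ : z ∈ Q := by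
          have := Q.mul_mem (Q.mul_mem (Q.inv_mem x.2) ((le_sup_right : P2 ≤ Q) hz)) x.2
          simpa [mul_assoc] using this
        exact (Subgroup.mem_normalizer_iff.1 hx ⟨z, hzQ⟩).2 hz
    have hx' : (x : G) ∈ ((P1 ⊔ P2 : Subgroup G) : Set G) := x.2
    rw [sup_comm, coe_mul_of_left_le_normalizer_right P2 P1 (hP2M.trans hP1n)] at hx'
    obtain ⟨b, hb, a, ha, hba⟩ := hx'
    change (x : G) ∈ P2
    rw [← hba]
    refine P2.mul_mem hb (hR ⟨ha, ?_⟩)
    have haeq : a = b⁻¹ * (x : G) := by rw [← hba]; simp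
    rw [haeq]
    exact N.mul_mem (N.inv_mem (mcore_le p N hb)) hxN
  have hle : P1 ≤ P2 := le_sup_left.trans (subgroupOf_eq_top.1 htop)
  obtain ⟨e⟩ := S.iso
  have heq : P1 = P2 := by
    refine Subgroup.eq_of_le_of_card_ge hle ?_
    rw [hP1, hP2, mcore, mcore, card_map_of_injective M.subtype_injective,
      card_map_of_injective N.subtype_injective, ← pCore_map_equiv p e,
      card_map_of_injective (f := e.toMonoidHom) e.injective]
  exact hP2ne (heq ▸ S.eq_bot_of_both (mcore_le p M) hP1n (heq ▸ hP2n))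

end Setup

end CfsgLib.TW
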