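import Mathlib
import Cfsg.Agent.Lib.PermDerange.Counting

/-! Two-point stabilisers of 2-transitive groups, and the bound `E (n / π) ≥ 2` over them. -/

set_option autoImplicit false

namespace CfsgLib.PermDerange

open MulAction

section Subgroups

variable {G : Type*} [Group G] [Finite G]

theorem le_normalizer_of_two_mul_card {H K : Subgroup G} (hle : H ≤ K)
    (h : 2 * Nat.card H = Nat.card K) : K ≤ Subgroup.normalizer (H : Set G) := by
  have hidx : (H.subgroupOf K).index = 2 := by
    have h1 := (H.subgroupOf K).index_mul_card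
    rw [Nat.card_congr (Subgroup.subgroupOfEquivOfLe hle).toEquiv, ← h] at h1
    exact Nat.eq_of_mul_eq_mul_right Nat.card_pos h1
  haveI := Subgroup.normal_of_index_eq_two hidx
  intro k hk
  rw [Subgroup.mem_normalizer_iff]
  intro x
  constructor
  · intro hx
    have := this.conj_mem ⟨x, hle hx⟩ (by simpa [Subgroup.mem_subgroupOf] using hx) ⟨k, hk⟩
    simpa [Subgroup.mem_subgroupOf] using this
  · intro hx
    have hxK : x ∈ K := by
      have := K.mul_mem (K.mul_mem (K.inv_mem hk) (hle hx)) hk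
      simpa [mul_assoc] using this
    have := this.conj_mem ⟨k * x * k⁻¹, hle hx⟩ (by simpa [Subgroup.mem_subgroupOf] using hx) ⟨k⁻¹, K.inv_mem hk⟩
    simpa [Subgroup.mem_subgroupOf, mul_assoc] using this

theorem relIndex_mul_card_inf (H K : Subgroup G) :
    K.relIndex H * Nat.card (H ⊓ K : Subgroup G) = Nat.card H := by
  have h := Subgroup.relIndex_mul_relIndex ⊥ (H ⊓ K) H bot_le inf_le_left
  rw [Subgroup.relIndex_bot_left, Subgroup.relIndex_bot_left, inf_comm H K,
    Subgroup.inf_relIndex_right, mul_comm] at h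
  rwa [inf_comm H K]

theorem sup_eq_of_two_mul_card {H L K : Subgroup G} (hH : H ≤ K) (hL : L ≤ K)
    (hne : ¬ L ≤ H) (h : 2 * Nat.card H = Nat.card K) : H ⊔ L = K := by
  refine Subgroup.eq_of_le_of_card_ge (sup_le hH hL) ?_
  obtain ⟨c, hc⟩ := Subgroup.card_dvd_of_le (le_sup_left : H ≤ H ⊔ L)
  have hlt : Nat.card H < Nat.card ↥(H ⊔ L) := by
    refine lt_of_le_of_ne (Nat.le_of_dvd Nat.card_pos ⟨c, hc⟩) fun heq => hne ?_
    have := Subgroup.eq_of_le_of_card_ge (le_sup_left : H ≤ H ⊔ L) heq.ge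
    exact le_sup_right.trans this.ge
  have hc2 : 2 ≤ c := by
    by_contra hcon
    rw [hc] at hlt
    interval_cases c <;> omega
  rw [← h, hc, mul_comm 2]
  exact Nat.mul_le_mul_left _ hc2

end Subgroups

variable {G Ω : Type*} [Group G] [Finite G] [MulAction G Ω] [Fintype Ω]

/-- Any pair of distinct points can be carried to any other. -/
def IsTwoTrans (G Ω : Type*) [Group G] [MulAction G Ω] : Prop :=
  ∀ a b c d : Ω, a ≠ b → c ≠ d → ∃ g : G, g • a = c ∧ g • b = d

/-- The stabiliser of two points. -/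
def stab2 (G : Type*) {Ω : Type*} [Group G] [MulAction G Ω] (a b : Ω) : Subgroup G :=
  stabilizer G a ⊓ stabilizer G b

/-- The stabiliser of three points. -/
def stab3 (G : Type*) {Ω : Type*} [Group G] [MulAction G Ω] (a b c : Ω) : Subgroup G :=
  stab2 G a b ⊓ stabilizer G c

omit [Finite G] [Fintype Ω] in
theorem mem_stab2 {a b : Ω} {g : G} : g ∈ stab2 G a b ↔ g • a = a ∧ g • b = b := Iff.rfl

omit [Finite G] [Fintype Ω] in
theorem mem_stab3 {a b c : Ω} {g : G} :
    g ∈ stab3 G a b c ↔ (g • a = a ∧ g • b = b) ∧ g • c = c := Iff.rfl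

omit [Finite G] [Fintype Ω] in
theorem stab2_comm (a b : Ω) : stab2 G a b = stab2 G b a := inf_comm _ _

omit [Finite G] [Fintype Ω] in
theorem stab3_comm (a b c : Ω) : stab3 G a b c = stab3 G b a c := by rw [stab3, stab3, stab2_comm]

omit [Finite G] [Fintype Ω] in
theorem card_stab2_smul (g : G) (a b : Ω) :
    Nat.card (stab2 G (g • a) (g • b)) = Nat.card (stab2 G a b) := by
  refine (Nat.card_congr (Equiv.subtypeEquiv (MulAut.conj g).toEquiv fun x => ?_)).symm
  simp [mem_stab2, mul_smul, inv_smul_smul, smul_left_cancel_iff]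

omit [Finite G] [Fintype Ω] in
theorem card_stab3_smul (g : G) (a b c : Ω) :
    Nat.card (stab3 G (g • a) (g • b) (g • c)) = Nat.card (stab3 G a b c) := by
  refine (Nat.card_congr (Equiv.subtypeEquiv (MulAut.conj g).toEquiv fun x => ?_)).symm
  simp [mem_stab3, mul_smul, inv_smul_smul, smul_left_cancel_iff]

omit [Finite G] [Fintype Ω] in
theorem card_stab2_eq (h2 : IsTwoTrans G Ω) {a b c d : Ω} (hab : a ≠ b) (hcd : c ≠ d) :
    Nat.card (stab2 G a b) = Nat.card (stab2 G c d) := by
  obtain ⟨g, rfl, rfl⟩ := h2 a b c d hab hcd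
  rw [card_stab2_smul]

section
open Classical

/-- The fixed points of an element. -/
noncomputable def fixPts (Ω : Type*) {G : Type*} [Group G] [MulAction G Ω] [Fintype Ω] (g : G) :
    Finset Ω :=
  Finset.univ.filter fun x => g • x = x

/-- The points fixed by the stabiliser of two points. -/
noncomputable def line (G : Type*) {Ω : Type*} [Group G] [MulAction G Ω] [Fintype Ω] (a b : Ω) :
    Finset Ω :=
  Finset.univ.filter fun x => ∀ g ∈ stab2 G a b, g • x = x

omit [Finite G] in
theorem mem_line {a b x : Ω} : x ∈ line G a b ↔ ∀ g ∈ stab2 G a b, g • x = x := by simp [line]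

omit [Finite G] in
theorem mem_fixPts {g : G} {x : Ω} : x ∈ fixPts Ω g ↔ g • x = x := by simp [fixPts]

omit [Finite G] in
theorem card_fixPts (g : G) : (fixPts Ω g).card = Nat.card (fixedBy Ω g) := by
  rw [← Nat.card_eq_finsetCard]
  exact Nat.card_congr (Equiv.subtypeEquivRight fun x => mem_fixPts)

omit [Finite G] in
theorem left_mem_line (a b : Ω) : a ∈ line G a b := mem_line.2 fun _ hg => hg.1

omit [Finite G] in
theorem right_mem_line (a b : Ω) : b ∈ line G a b := mem_line.2 fun _ hg => hg.2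

omit [Finite G] in
theorem line_comm (a b : Ω) : line G a b = line G b a := by rw [line, line, stab2_comm]

omit [Finite G] in
theorem mem_line_smul (g : G) (a b x : Ω) : g • x ∈ line G (g • a) (g • b) ↔ x ∈ line G a b := by
  simp only [mem_line, mem_stab2]
  constructor
  · intro h u hu
    have := h (g * u * g⁻¹) ⟨by simp [mul_smul, hu.1], by simp [mul_smul, hu.2]⟩
    simpa [mul_smul] using this
  · intro h u hu
    have := h (g⁻¹ * u * g) ⟨by rw [mul_smul, mul_smul, hu.1, inv_smul_smul],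
      by rw [mul_smul, mul_smul, hu.2, inv_smul_smul]⟩
    rwa [mul_smul, mul_smul, inv_smul_eq_iff] at this

omit [Finite G] in
theorem card_line_eq (h2 : IsTwoTrans G Ω) {a b c d : Ω} (hab : a ≠ b) (hcd : c ≠ d) :
    (line G a b).card = (line G c d).card := by
  obtain ⟨g, rfl, rfl⟩ := h2 a b c d hab hcd
  rw [← Finset.card_image_of_injective (line G a b) (MulAction.injective g)]
  congr 1
  ext x
  rw [Finset.mem_image]
  constructor
  · rintro ⟨y, hy, rfl⟩; exact (mem_line_smul g a b y).2 hy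
  · intro hx
    refine ⟨g⁻¹ • x, ?_, smul_inv_smul g x⟩
    rwa [← mem_line_smul g, smul_inv_smul]

theorem stab2_eq_of_mem_line (h2 : IsTwoTrans G Ω) {a b c d : Ω} (hab : a ≠ b) (hcd : c ≠ d)
    (hc : c ∈ line G a b) (hd : d ∈ line G a b) : stab2 G c d = stab2 G a b :=
  (Subgroup.eq_of_le_of_card_ge
    ((fun g hg => ⟨mem_line.1 hc g hg, mem_line.1 hd g hg⟩) : stab2 G a b ≤ stab2 G c d)
    (card_stab2_eq h2 hcd hab).le).symm

/-- The lines from `ω` to the points of `C` meet only in `ω`. -/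
theorem spread (h2 : IsTwoTrans G Ω) {a b ω : Ω} (hab : a ≠ b) (C : Finset Ω)
    (hω : ∀ c ∈ C, c ≠ ω) (hC : ∀ c ∈ C, ∀ c' ∈ C, c ≠ c' → ∃ g ∈ stab2 G c c', g • ω ≠ ω) :
    C.card * ((line G a b).card - 1) + 1 ≤ (insert ω (C.biUnion fun c => line G ω c)).card := by
  have hdisj : ∀ c ∈ C, ∀ c' ∈ C, c ≠ c' →
      Disjoint ((line G ω c).erase ω) ((line G ω c').erase ω) := by
    intro c hc c' hc' hne
    rw [Finset.disjoint_left]
    intro x hx hx'
    obtain ⟨hxω, hx⟩ := Finset.mem_erase.1 hx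
    obtain ⟨-, hx'⟩ := Finset.mem_erase.1 hx'
    have e1 := stab2_eq_of_mem_line h2 (hω c hc).symm hxω.symm (left_mem_line ω c) hx
    have e2 := stab2_eq_of_mem_line h2 (hω c' hc').symm hxω.symm (left_mem_line ω c') hx'
    have hfix : stab2 G ω c ≤ stab2 G c c' := fun g hg => ⟨hg.2, by
      rw [← e1, e2] at hg; exact hg.2⟩
    have heq := Subgroup.eq_of_le_of_card_ge hfix (card_stab2_eq h2 hne (hω c hc).symm).le
    obtain ⟨g, hg, hgω⟩ := hC c hc c' hc' hne
    exact hgω (heq.symm ▸ hg : g ∈ stab2 G ω c).1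
  have hsub : insert ω (C.biUnion fun c => (line G ω c).erase ω) ⊆
      insert ω (C.biUnion fun c => line G ω c) :=
    Finset.insert_subset_insert _ (Finset.biUnion_mono fun c _ => Finset.erase_subset _ _)
  refine le_trans (le_of_eq ?_) (Finset.card_le_card hsub)
  rw [Finset.card_insert_of_notMem (by simp), Finset.card_biUnion hdisj,
    Finset.sum_congr rfl fun c hc => by
      rw [Finset.card_erase_of_mem (left_mem_line ω c), card_line_eq h2 (hω c hc).symm hab],
    Finset.sum_const, smul_eq_mul]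

/-- A nontrivial element of a two-point stabiliser leaves much room. -/
theorem card_fixPts_mul (h2 : IsTwoTrans G Ω) {a b ω : Ω} (hab : a ≠ b) {g : G}
    (hω : g • ω ≠ ω) :
    (fixPts Ω g).card * ((line G a b).card - 1) + 1 ≤ Fintype.card Ω := by
  refine le_trans (spread h2 hab (fixPts Ω g) (fun c hc h => by subst h; exact hω (mem_fixPts.1 hc)) ?_)
    (Finset.card_le_univ _)
  intro c hc c' hc' _
  exact ⟨g, ⟨mem_fixPts.1 hc, mem_fixPts.1 hc'⟩, hω⟩

theorem line_subset_fixPts {a b : Ω} {g : G} (hg : g ∈ stab2 G a b) :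
    line G a b ⊆ fixPts Ω g := fun _ hx => mem_fixPts.2 (mem_line.1 hx g hg)

/-- An element fixing a line and a point outside fixes at least `k² - k + 1` points. -/
theorem card_fixPts_ge (h2 : IsTwoTrans G Ω) {a b ω : Ω} (hab : a ≠ b) {g : G}
    (hg : g ∈ stab2 G a b) (hω : ω ∉ line G a b) (hgω : g • ω = ω) :
    (line G a b).card * ((line G a b).card - 1) + 1 ≤ (fixPts Ω g).card := by
  refine le_trans (spread h2 hab (line G a b) (fun c hc h => by subst h; exact hω hc) ?_) (Finset.card_le_card ?_)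
  · intro c hc c' hc' hne
    rw [stab2_eq_of_mem_line h2 hab hne hc hc']
    simpa [mem_line] using hω
  · refine Finset.insert_subset (mem_fixPts.2 hgω) (Finset.biUnion_subset.2 fun c hc => ?_)
    exact line_subset_fixPts ⟨hgω, mem_line.1 hc g hg⟩

theorem card_orbit_mul_card_stab3 (a b x : Ω) :
    Nat.card (orbit (stab2 G a b) x) * Nat.card (stab3 G a b x) = Nat.card (stab2 G a b) := by
  rw [← Nat.card_congr (MulAction.orbitProdStabilizerEquivGroup (stab2 G a b) x), Nat.card_prod]
  congr 1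
  exact Nat.card_congr
    { toFun := fun g => ⟨⟨g.1, g.2.1⟩, g.2.2⟩
      invFun := fun g => ⟨g.1.1, g.1.2, g.2⟩
      left_inv := fun _ => rfl
      right_inv := fun _ => rfl }

omit [Finite G] in
theorem mem_line_iff_stab3 {a b x : Ω} : x ∈ line G a b ↔ stab3 G a b x = stab2 G a b := by
  rw [mem_line, stab3, inf_eq_left]
  rfl

theorem card_stab3_le (a b x : Ω) : Nat.card (stab3 G a b x) ≤ Nat.card (stab2 G a b) :=
  Nat.le_of_dvd Nat.card_pos (Subgroup.card_dvd_of_le inf_le_left)

theorem card_stab3_eq_iff (a b x : Ω) :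
    Nat.card (stab3 G a b x) = Nat.card (stab2 G a b) ↔ x ∈ line G a b := by
  rw [mem_line_iff_stab3]
  exact ⟨fun h => Subgroup.eq_of_le_of_card_ge inf_le_left h.ge, fun h => by rw [h]⟩

/-- If `x` is moved, its stabiliser has index at least two. -/
theorem two_mul_card_stab3_le {a b x : Ω} (hx : x ∉ line G a b) :
    2 * Nat.card (stab3 G a b x) ≤ Nat.card (stab2 G a b) := by
  have h := card_orbit_mul_card_stab3 (G := G) a b x
  have h1 : Nat.card (orbit (stab2 G a b) x) ≠ 1 := fun h1 => hx <| (card_stab3_eq_iff a b x).1 <| by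
    rwa [h1, one_mul] at h
  have h0 : 0 < Nat.card (orbit (stab2 G a b) x) :=
    Nat.card_pos_iff.2 ⟨⟨⟨x, mem_orbit_self x⟩⟩, inferInstance⟩
  rw [← h]
  exact Nat.mul_le_mul_right _ (by omega)

/-- The points in orbits of size two of a two-point stabiliser with a given kernel. -/
noncomputable def classPts (G : Type*) {Ω : Type*} [Group G] [MulAction G Ω] [Fintype Ω]
    (a b : Ω) (X : Subgroup G) : Finset Ω :=
  Finset.univ.filter fun x => 2 * Nat.card (stab3 G a b x) = Nat.card (stab2 G a b) ∧ stab3 G a b x = X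

/-- `c` is special from `a`. -/
def Special (G : Type*) {Ω : Type*} [Group G] [MulAction G Ω] (a b c : Ω) : Prop :=
  ∃ x : Ω, 2 * Nat.card (stab3 G a b x) = Nat.card (stab2 G a b) ∧
    2 * Nat.card (stab3 G a c x) = Nat.card (stab2 G a b) ∧ stab3 G a b x ≠ stab3 G a b c

theorem ne_left_of_two_mul {a b c : Ω} (hc : 2 * Nat.card (stab3 G a b c) = Nat.card (stab2 G a b)) :
    c ∉ line G a b := by
  intro h
  rw [← card_stab3_eq_iff] at h
  have : 0 < Nat.card (stab2 G a b) := Nat.card_pos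
  omega

theorem special_smul (h2 : IsTwoTrans G Ω) {a b c : Ω} (hab : a ≠ b)
    (hc : 2 * Nat.card (stab3 G a b c) = Nat.card (stab2 G a b)) (hs : Special G a b c)
    {g : G} (hg : g ∈ stab2 G a b) {h : G} (hh : h ∈ stab2 G a c) : h • g • c = g • c := by
  obtain ⟨x, hx, hx', hne⟩ := hs
  have hac : a ≠ c := fun h => ne_left_of_two_mul hc (h ▸ left_mem_line a b)
  have hax : a ≠ x := fun h => ne_left_of_two_mul hx (h ▸ left_mem_line a b)
  have hX' : stab3 G a b c ≤ stab2 G a c := fun u hu => ⟨hu.1.1, hu.2⟩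
  have hcS' : Nat.card (stab2 G a c) = Nat.card (stab2 G a b) := card_stab2_eq h2 hac hab
  have hcX : 2 * Nat.card (stab3 G a b c) = Nat.card (stab2 G a c) := hc.trans hcS'.symm
  have hR : ¬ stab3 G a c x ≤ stab3 G a b c := fun hle => hne <| by
    have heq := Subgroup.eq_of_le_of_card_ge hle (by omega)
    refine Subgroup.eq_of_le_of_card_ge ?_ (by omega) |>.symm
    intro u hu
    exact ⟨hu.1, (heq.symm ▸ hu : u ∈ stab3 G a c x).2⟩
  have hS' : stab3 G a b c ⊔ stab3 G a c x = stab2 G a c :=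
    sup_eq_of_two_mul_card hX' inf_le_left hR hcX
  have hQ : ¬ stab3 G a b x ≤ stab3 G a b c := fun hle =>
    hne (Subgroup.eq_of_le_of_card_ge hle (by omega))
  have hS : stab3 G a b c ⊔ stab3 G a b x = stab2 G a b :=
    sup_eq_of_two_mul_card inf_le_left inf_le_left hQ hc
  have hnorm : stab2 G a b ≤ Subgroup.normalizer ((stab2 G a c : Subgroup G) : Set G) := by
    rw [← hS]
    refine sup_le (hX'.trans Subgroup.le_normalizer) fun q hq => ?_
    have h1 : q ∈ Subgroup.normalizer ((stab3 G a b c : Subgroup G) : Set G) :=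
      le_normalizer_of_two_mul_card inf_le_left hc hq.1
    have h3 : q ∈ Subgroup.normalizer ((stab3 G a c x : Subgroup G) : Set G) :=
      le_normalizer_of_two_mul_card (K := stab2 G a x) ((fun (u : G) hu => ⟨hu.1.1, hu.2⟩) : stab3 G a c x ≤ stab2 G a x)
        (by rw [hx', card_stab2_eq h2 hab hax]) ⟨hq.1.1, hq.2⟩
    rw [Subgroup.mem_normalizer_iff_map_conj_eq] at h1 h3 ⊢
    rw [← hS', Subgroup.map_sup, h1, h3]
  have := (Subgroup.mem_normalizer_iff.1 (hnorm ((stab2 G a b).inv_mem hg)) h).1 hh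
  have h4 : (g⁻¹ * h * g) • c = c := by simpa using this.2
  rwa [mul_smul, mul_smul, inv_smul_eq_iff] at h4

theorem not_special_both (h2 : IsTwoTrans G Ω) {a b c : Ω} (hab : a ≠ b)
    (hc : 2 * Nat.card (stab3 G a b c) = Nat.card (stab2 G a b)) :
    ¬ Special G a b c ∨ ¬ Special G b a c := by
  by_contra hcon
  push Not at hcon
  obtain ⟨h1, h3⟩ := hcon
  obtain ⟨g, hg, hgc⟩ : ∃ g ∈ stab2 G a b, g • c ≠ c := by
    simpa [mem_line] using ne_left_of_two_mul hc
  have hac : a ≠ c := fun h => ne_left_of_two_mul hc (h ▸ left_mem_line a b)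
  have hbc : b ≠ c := fun h => ne_left_of_two_mul hc (h ▸ right_mem_line a b)
  have e1 : stab2 G a c = stab2 G c (g • c) := Subgroup.eq_of_le_of_card_ge
    ((fun (h : G) hh => ⟨hh.2, special_smul h2 hab hc h1 hg hh⟩) : stab2 G a c ≤ stab2 G c (g • c))
    (card_stab2_eq h2 hgc.symm hac).le
  have e2 : stab2 G b c = stab2 G c (g • c) := Subgroup.eq_of_le_of_card_ge
    ((fun (h : G) hh => ⟨hh.2, special_smul h2 hab.symm (by rwa [stab3_comm b a c, stab2_comm b a]) h3
      (by rwa [stab2_comm]) hh⟩) : stab2 G b c ≤ stab2 G c (g • c)) (card_stab2_eq h2 hgc.symm hbc).le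
  have hle : stab2 G a c ≤ stab3 G a b c := fun h hh =>
    ⟨⟨hh.1, ((e1.trans e2.symm) ▸ hh : h ∈ stab2 G b c).1⟩, hh.2⟩
  have := Nat.le_of_dvd Nat.card_pos (Subgroup.card_dvd_of_le hle)
  have hp : 0 < Nat.card (stab2 G a b) := Nat.card_pos
  rw [card_stab2_eq h2 hac hab] at this
  omega

theorem outside_class (h2 : IsTwoTrans G Ω) {a b c x : Ω} (hab : a ≠ b)
    (hc : 2 * Nat.card (stab3 G a b c) = Nat.card (stab2 G a b)) (hns : ¬ Special G a b c)
    (hx : 2 * Nat.card (stab3 G a b x) = Nat.card (stab2 G a b))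
    (hne : stab3 G a b x ≠ stab3 G a b c) :
    4 * Nat.card (stab3 G a c x) = Nat.card (stab2 G a c) := by
  have hac : a ≠ c := fun h => ne_left_of_two_mul hc (h ▸ left_mem_line a b)
  have hax : a ≠ x := fun h => ne_left_of_two_mul hx (h ▸ left_mem_line a b)
  have hs : Nat.card (stab2 G a c) = Nat.card (stab2 G a b) := card_stab2_eq h2 hac hab
  set Y := stab3 G a b c ⊓ stabilizer G x with hY
  have hYne : Nat.card Y ≠ Nat.card (stab3 G a b c) := fun h => hne <| by
    have h' := Subgroup.eq_of_le_of_card_ge (inf_le_left : Y ≤ stab3 G a b c) h.ge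
    refine (Subgroup.eq_of_le_of_card_ge (H := stab3 G a b c) (K := stab3 G a b x) ?_ (by omega)).symm
    intro u hu
    refine ⟨hu.1, ?_⟩
    rw [← h'] at hu
    exact hu.2
  have hY2 : Nat.card (stab3 G a b c) = 2 * Nat.card Y := by
    obtain ⟨t, ht⟩ := Subgroup.card_dvd_of_le (inf_le_left : Y ≤ stab3 G a b c)
    have hrel : (stabilizer G x).relIndex (stab3 G a b c) ≤ (stabilizer G x).relIndex (stab2 G a b) :=
      Subgroup.relIndex_le_of_le_right inf_le_left Subgroup.index_ne_zero_of_finite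
    have e1 : (stabilizer G x).relIndex (stab3 G a b c) * Nat.card Y = Nat.card (stab3 G a b c) :=
      relIndex_mul_card_inf _ _
    have e2 : (stabilizer G x).relIndex (stab2 G a b) * Nat.card (stab3 G a b x) = Nat.card (stab2 G a b) :=
      relIndex_mul_card_inf _ _
    have e3 : (stabilizer G x).relIndex (stab2 G a b) = 2 :=
      Nat.eq_of_mul_eq_mul_right Nat.card_pos (e2.trans hx.symm)
    rw [e3] at hrel
    have hpos : 0 < Nat.card Y := Nat.card_pos
    have h0 : 0 < Nat.card (stab3 G a b c) := Nat.card_pos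
    interval_cases h : (stabilizer G x).relIndex (stab3 G a b c) <;> omega
  have hle : Y ≤ stab3 G a c x := fun (u : G) hu => ⟨⟨hu.1.1.1, hu.1.2⟩, hu.2⟩
  obtain ⟨j, hj⟩ := Subgroup.card_dvd_of_le hle
  have hl := card_orbit_mul_card_stab3 (G := G) a c x
  rw [hs] at hl ⊢
  have hpos : 0 < Nat.card Y := Nat.card_pos
  have h4 : Nat.card (orbit (stab2 G a c) x) * j = 4 := by
    apply Nat.eq_of_mul_eq_mul_right hpos
    rw [mul_assoc, mul_comm j, ← hj, hl]
    omega
  have hl1 : Nat.card (orbit (stab2 G a c) x) ≠ 1 := fun h1 => hne <| by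
    rw [h1, one_mul] at hl
    have hxl : x ∈ line G a c := (card_stab3_eq_iff a c x).1 (hl.trans hs.symm)
    have e := stab2_eq_of_mem_line h2 hac hax (left_mem_line a c) hxl
    ext u
    simp only [mem_stab3]
    have e' : u ∈ stab2 G a x ↔ u ∈ stab2 G a c := by rw [e]
    simp only [mem_stab2] at e'
    tauto
  have hl2 : Nat.card (orbit (stab2 G a c) x) ≠ 2 := fun h1 => hns
    ⟨x, hx, by rw [h1] at hl; exact hl, hne⟩
  have : Nat.card (orbit (stab2 G a c) x) = 4 := by
    have hd : Nat.card (orbit (stab2 G a c) x) ∣ 4 := ⟨j, h4.symm⟩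
    have := Nat.le_of_dvd (by norm_num) hd
    interval_cases h : Nat.card (orbit (stab2 G a c) x) <;> omega
  rw [this] at hl
  exact hl

end

end CfsgLib.PermDerange
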