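import Mathlib
import Cfsg.Agent.Lib.PermDerange.Counting
import Cfsg.Agent.Lib.PermDerange.TwoTrans

/-! Over a two-point stabiliser, `n / π` has mean at least `2`. -/

set_option autoImplicit false

namespace CfsgLib.PermDerange

open MulAction
open Classical

variable {G Ω : Type*} [Group G] [Finite G] [MulAction G Ω] [Fintype Ω]

theorem card_mem_filter [Fintype G] (H : Subgroup G) :
    (Finset.univ.filter (· ∈ H)).card = Nat.card H := by
  rw [← Nat.card_eq_finsetCard]
  exact Nat.card_congr (Equiv.subtypeEquivRight fun x => by simp)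

theorem sum_fixPts_eq [Fintype G] (H : Subgroup G) :
    ∑ g ∈ Finset.univ.filter (· ∈ H), (fixPts Ω g).card
      = ∑ x : Ω, Nat.card (H ⊓ stabilizer G x : Subgroup G) := by
  simp only [fixPts, Finset.card_filter]
  rw [Finset.sum_comm]
  refine Finset.sum_congr rfl fun x _ => ?_
  rw [← Finset.card_filter, Finset.filter_filter, ← card_mem_filter]
  congr 1
  ext g
  simp [Subgroup.mem_inf]

theorem sum_fixPts_eq_mul [Fintype G] (H : Subgroup G) :
    ∃ T : ℕ, ∑ g ∈ Finset.univ.filter (· ∈ H), (fixPts Ω g).card = T * Nat.card H := by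
  haveI : Fintype H := Fintype.ofFinite H
  refine ⟨Nat.card (orbitRel.Quotient H Ω), ?_⟩
  rw [← sum_card_fixedBy, ← Finset.sum_subtype_eq_sum_filter]
  refine Finset.sum_bij' (fun g _ => (⟨g.1, g.2⟩ : H)) (fun g _ => (⟨g.1, g.2⟩ : {x // x ∈ H}))
    (fun _ _ => Finset.mem_univ _) (fun g _ => by simp) (fun _ _ => rfl) (fun _ _ => rfl) ?_
  intro g _
  rw [card_fixPts]
  rfl

/-- Cauchy–Schwarz for the reciprocals. -/
theorem mul_sq_div_le_sum_div (F : Finset G) (hF : ∀ g ∈ F, 0 < (fixPts Ω g).card) :
    (Fintype.card Ω : ℝ) * (F.card : ℝ) ^ 2 / (∑ g ∈ F, ((fixPts Ω g).card : ℝ)) ≤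
      ∑ g ∈ F, (Fintype.card Ω : ℝ) / ((fixPts Ω g).card : ℝ) := by
  have h := Finset.sq_sum_div_le_sum_sq_div F (fun _ : G => (1 : ℝ))
    (g := fun g => ((fixPts Ω g).card : ℝ)) (fun g hg => by exact_mod_cast hF g hg)
  simp only [Finset.sum_const, nsmul_eq_mul, mul_one, one_pow] at h
  calc (Fintype.card Ω : ℝ) * (F.card : ℝ) ^ 2 / (∑ g ∈ F, ((fixPts Ω g).card : ℝ))
      = (Fintype.card Ω : ℝ) * ((F.card : ℝ) ^ 2 / (∑ g ∈ F, ((fixPts Ω g).card : ℝ))) := mul_div_assoc _ _ _
    _ ≤ (Fintype.card Ω : ℝ) * ∑ g ∈ F, 1 / ((fixPts Ω g).card : ℝ) :=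
        mul_le_mul_of_nonneg_left h (Nat.cast_nonneg _)
    _ = _ := by rw [Finset.mul_sum]; exact Finset.sum_congr rfl fun g _ => mul_one_div _ _

/-- The exceptional configuration of the Fano plane does not occur. -/
theorem not_fano (h2 : IsTwoTrans G Ω) [FaithfulSMul G Ω] {a b : Ω} (hab : a ≠ b)
    (hn : Fintype.card Ω = 7) (hk : (line G a b).card = 3) (hs : Nat.card (stab2 G a b) = 2)
    (hsemi : ∀ g ∈ stab2 G a b, g ≠ 1 → fixPts Ω g = line G a b) : False := by
  haveI : Nontrivial (stab2 G a b) := Finite.one_lt_card_iff_nontrivial.1 (by omega)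
  obtain ⟨⟨x, hx⟩, hx1⟩ := exists_ne (1 : stab2 G a b)
  have hxne : x ≠ 1 := fun h => hx1 (Subtype.ext h)
  have huniq : ∀ g ∈ stab2 G a b, g ≠ 1 → g = x := by
    intro g hg hg1
    by_contra hne
    haveI : Fintype (stab2 G a b) := Fintype.ofFinite _
    have := Finset.card_le_univ ({⟨1, one_mem _⟩, ⟨g, hg⟩, ⟨x, hx⟩} : Finset (stab2 G a b))
    rw [← Nat.card_eq_fintype_card, hs, Finset.card_insert_of_notMem (by simp [Ne.symm hg1, Ne.symm hxne]),
      Finset.card_pair (by simpa using hne)] at this
    omega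
  have hmoved : ∀ y, y ∉ line G a b → x • y ≠ y := fun y hy h => hy (hsemi x hx hxne ▸ mem_fixPts.2 h)
  have hx2 : ∀ y : Ω, x • x • y = y := fun y => by
    rw [← mul_smul]
    by_contra h
    have hne : x * x ≠ 1 := fun h1 => h (by rw [h1, one_smul])
    have := huniq _ (mul_mem hx hx) hne
    exact hxne (mul_left_cancel (this.trans (mul_one x).symm))
  -- every moved point has a centre on the line
  have hex : ∀ y, y ∉ line G a b → ∃ c ∈ line G a b, c ∈ line G y (x • y) := by
    intro y hy
    have hyy : y ≠ x • y := (hmoved y hy).symm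
    obtain ⟨c, hc, hcne⟩ : ∃ c ∈ line G y (x • y), c ∉ ({y, x • y} : Finset Ω) :=
      Finset.exists_mem_notMem_of_card_lt_card (by rw [card_line_eq h2 hyy hab, hk, Finset.card_pair hyy]; norm_num)
    refine ⟨c, ?_, hc⟩
    by_contra hcl
    have hxc : x • c ∈ line G y (x • y) := by
      have := (mem_line_smul x y (x • y) c).2 hc
      rwa [hx2, line_comm] at this
    have hsub : ({y, x • y, c, x • c} : Finset Ω) ⊆ line G y (x • y) := by
      simp [Finset.insert_subset_iff, left_mem_line, right_mem_line, hc, hxc]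
    simp only [Finset.mem_insert, Finset.mem_singleton, not_or] at hcne
    have h4 : ({y, x • y, c, x • c} : Finset Ω).card = 4 := by
      have e1 : y ≠ x • c := fun h => hcne.2 (by rw [h, hx2])
      have e2 : x • y ≠ x • c := fun h => hcne.1 (MulAction.injective x h).symm
      rw [Finset.card_insert_of_notMem (by simp [hyy, Ne.symm hcne.1, e1]),
        Finset.card_insert_of_notMem (by simp [Ne.symm hcne.2, e2]),
        Finset.card_pair (hmoved c hcl).symm]
    have := Finset.card_le_card hsub
    rw [card_line_eq h2 hyy hab, hk, h4] at this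
    omega
  have huniqc : ∀ c c' y y', c ∈ line G a b → c' ∈ line G a b → y ∉ line G a b → y' ∉ line G a b →
      c ∈ line G y (x • y) → c' ∈ line G y' (x • y') → c = c' := by
    intro c c' y y' hc hc' hy hy' h h'
    by_contra hne
    have key : ∀ z : Ω, z ∉ line G a b → c ∈ line G z (x • z) → c' ∈ line G z (x • z) → False := by
      intro z hz e e'
      have h1 := stab2_eq_of_mem_line h2 (hmoved z hz).symm hne e e'
      have h3 := stab2_eq_of_mem_line h2 hab hne hc hc'
      apply hz
      rw [mem_line, ← h3, h1]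
      exact fun g hg => hg.1
    by_cases hyy : y' ∈ line G y (x • y)
    · have hy'' : y' = y ∨ y' = x • y := by
        by_contra hcon
        push Not at hcon
        have hsub : ({y, x • y, c, y'} : Finset Ω) ⊆ line G y (x • y) := by
          simp [Finset.insert_subset_iff, left_mem_line, right_mem_line, h, hyy]
        have hcy : c ≠ y := fun e => hy (e ▸ hc)
        have hcy2 : c ≠ x • y := fun e => by
          have e2 : x • c = c := mem_line.1 hc x hx
          rw [e, hx2] at e2
          exact hmoved y hy e2.symm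
        have hcy' : c ≠ y' := fun e => hy' (e ▸ hc)
        have h4 : ({y, x • y, c, y'} : Finset Ω).card = 4 := by
          rw [Finset.card_insert_of_notMem (by simp [(hmoved y hy).symm, hcy.symm, hcon.1.symm]),
            Finset.card_insert_of_notMem (by simp [hcy2.symm, hcon.2.symm]),
            Finset.card_pair hcy']
        have := Finset.card_le_card hsub
        rw [card_line_eq h2 (hmoved y hy).symm hab, hk, h4] at this
        omega
      rcases hy'' with rfl | rfl
      · exact key y' hy h h'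
      · rw [hx2, line_comm] at h'
        exact key y hy h h'
    · -- the two lines through `c` together with `L`, and the line of `y'`, exhaust seven points
      have hcy' : c ≠ y' := fun e => hy' (e ▸ hc)
      obtain ⟨z, hz, hzne⟩ : ∃ z ∈ line G c y', z ∉ ({c, y'} : Finset Ω) :=
        Finset.exists_mem_notMem_of_card_lt_card (by rw [card_line_eq h2 hcy' hab, hk, Finset.card_pair hcy']; norm_num)
      simp only [Finset.mem_insert, Finset.mem_singleton, not_or] at hzne
      have hzL : z ∉ line G a b := fun hzl => hy' <| by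
        rw [mem_line, ← stab2_eq_of_mem_line h2 hab (Ne.symm hzne.1) hc hzl,
          stab2_eq_of_mem_line h2 hcy' (Ne.symm hzne.1) (left_mem_line c y') hz]
        exact fun g hg => hg.2
      have hyl : ∀ w, w ∈ line G y (x • y) → w ≠ c → w ∉ line G c y' := fun w hw hwc hw' => hyy <| by
        have e1 := stab2_eq_of_mem_line h2 hcy' hwc hw' (left_mem_line c y')
        have e2 := stab2_eq_of_mem_line h2 (hmoved y hy).symm hwc hw h
        rw [mem_line, ← e2, e1]
        exact fun g hg => hg.2
      have hcy : c ≠ y := fun e => hy (e ▸ hc)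
      have hcy2 : x • y ≠ c := fun e => by
        have e2 : x • c = c := mem_line.1 hc x hx
        rw [← e, hx2] at e2
        exact hmoved y hy e2.symm
      have hxy' : x • y' ∉ line G a b := fun e => hmoved y' hy' (by
        have h0 := mem_line.1 e x hx
        exact MulAction.injective x h0)
      have hxy : x • y ∉ line G a b := fun e => hmoved y hy (by
        have h0 := mem_line.1 e x hx
        exact MulAction.injective x h0)
      have hM : ({y, x • y, y', z} : Finset Ω) = (line G a b)ᶜ := by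
        refine Finset.eq_of_subset_of_card_le ?_ ?_
        · simp [Finset.insert_subset_iff, hy, hxy, hy', hzL]
        · rw [Finset.card_compl, hn, hk]
          have e1 : y ≠ y' := fun e => hyy (e ▸ left_mem_line _ _)
          have e2 : x • y ≠ y' := fun e => hyy (e ▸ right_mem_line _ _)
          have e3 : y ≠ z := fun e => hyl y (left_mem_line _ _) hcy.symm (e ▸ hz)
          have e4 : x • y ≠ z := fun e => hyl _ (right_mem_line _ _) hcy2 (e ▸ hz)
          rw [Finset.card_insert_of_notMem (by simp [(hmoved y hy).symm, e1, e3]),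
            Finset.card_insert_of_notMem (by simp [e2, e4]), Finset.card_pair (Ne.symm hzne.2)]
      have hmem : x • y' ∈ ({y, x • y, y', z} : Finset Ω) := by rw [hM]; simpa using hxy'
      simp only [Finset.mem_insert, Finset.mem_singleton] at hmem
      have hz' : x • y' = z := by
        rcases hmem with e | e | e | e
        · exact absurd (by rw [← e, hx2] : x • y = y') (fun e => hyy (e ▸ right_mem_line _ _))
        · exact absurd (MulAction.injective x e) (fun e => hyy (e.symm ▸ left_mem_line _ _))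
        · exact absurd e (hmoved y' hy')
        · exact e
      refine key y' hy' ?_ h'
      rw [mem_line, stab2_eq_of_mem_line h2 hcy' (hmoved y' hy').symm (right_mem_line c y') (hz' ▸ hz)]
      exact fun g hg => hg.1
  obtain ⟨y0, hy0⟩ : ∃ y, y ∉ line G a b := by
    by_contra hcon
    push Not at hcon
    have := Finset.card_le_card (fun y (_ : y ∈ (Finset.univ : Finset Ω)) => hcon y)
    rw [Finset.card_univ, hn, hk] at this
    omega
  obtain ⟨c, hc, hcy⟩ := hex y0 hy0
  obtain ⟨d, hd, hdc⟩ := Finset.exists_mem_ne (by omega : 1 < (line G a b).card) c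
  obtain ⟨g, hg1, hg2⟩ := h2 c d d c hdc.symm hdc
  have hS := stab2_eq_of_mem_line h2 hab hdc.symm hc hd
  have hLL : line G c d = line G a b := by rw [line, line, hS]
  have hL : ∀ w, g • w ∈ line G a b ↔ w ∈ line G a b := fun w => by
    have := mem_line_smul g c d w
    rwa [hg1, hg2, line_comm d c, hLL] at this
  have hconj : g * x * g⁻¹ = x := by
    refine huniq _ ?_ (fun h => hxne (by simpa using h))
    rw [← hS] at hx ⊢
    have hgc : g⁻¹ • c = d := inv_smul_eq_iff.2 hg2.symm
    have hgd : g⁻¹ • d = c := inv_smul_eq_iff.2 hg1.symm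
    exact mem_stab2.2 ⟨by rw [mul_smul, mul_smul, hgc, (mem_stab2.1 hx).2, hg2], by rw [mul_smul, mul_smul, hgd, (mem_stab2.1 hx).1, hg1]⟩
  have hxg : g • x • y0 = x • g • y0 := by
    conv_rhs => rw [← hconj]
    simp [mul_smul]
  have := huniqc d c (g • y0) y0 hd hc (fun h => hy0 ((hL y0).1 h)) hy0 (by
    rw [← hg1, ← hxg]
    exact (mem_line_smul g _ _ _).2 hcy) hcy
  exact hdc this

/-- Points whose orbit under the two-point stabiliser has size two. -/
noncomputable def pairPts (G : Type*) {Ω : Type*} [Group G] [MulAction G Ω] [Fintype Ω] (a b : Ω) :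
    Finset Ω :=
  Finset.univ.filter fun x => 2 * Nat.card (stab3 G a b x) = Nat.card (stab2 G a b)

/-- Points whose orbit under the two-point stabiliser has size at least three. -/
noncomputable def bigPts (G : Type*) {Ω : Type*} [Group G] [MulAction G Ω] [Fintype Ω] (a b : Ω) :
    Finset Ω :=
  Finset.univ.filter fun x => 2 * Nat.card (stab3 G a b x) < Nat.card (stab2 G a b)

/-- Points whose orbit under the two-point stabiliser has size four. -/
noncomputable def quadPts (G : Type*) {Ω : Type*} [Group G] [MulAction G Ω] [Fintype Ω] (a b : Ω) :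
    Finset Ω :=
  Finset.univ.filter fun x => 4 * Nat.card (stab3 G a b x) = Nat.card (stab2 G a b)

omit [Finite G] in
theorem card_quadPts_smul (g : G) (a b : Ω) :
    (quadPts G (g • a) (g • b)).card = (quadPts G a b).card := by
  rw [← Finset.card_image_of_injective (quadPts G a b) (MulAction.injective g)]
  congr 1
  ext x
  simp only [quadPts, Finset.mem_filter, Finset.mem_univ, true_and, Finset.mem_image]
  constructor
  · intro h
    refine ⟨g⁻¹ • x, ?_, smul_inv_smul g x⟩
    rwa [← card_stab2_smul g a b, ← card_stab3_smul g, smul_inv_smul]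
  · rintro ⟨y, hy, rfl⟩
    rwa [card_stab3_smul, card_stab2_smul]

theorem class_lower (h2 : IsTwoTrans G Ω) {a b c : Ω} (hab : a ≠ b) (hc : c ∈ pairPts G a b)
    (hns : ¬ Special G a b c) :
    (pairPts G a b).card ≤ (classPts G a b (stab3 G a b c)).card + (quadPts G a b).card := by
  simp only [pairPts, Finset.mem_filter, Finset.mem_univ, true_and] at hc
  have hac : a ≠ c := fun h => ne_left_of_two_mul hc (h ▸ left_mem_line a b)
  obtain ⟨g, hga, hgb⟩ := h2 a b a c hab hac
  have hq : (quadPts G a c).card = (quadPts G a b).card := by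
    have := card_quadPts_smul g a b
    rwa [hga, hgb] at this
  rw [← hq]
  refine le_trans (Finset.card_le_card ?_) (Finset.card_union_le _ _)
  intro x hx
  simp only [pairPts, Finset.mem_filter, Finset.mem_univ, true_and] at hx
  rw [Finset.mem_union]
  by_cases he : stab3 G a b x = stab3 G a b c
  · left; simp [classPts, hc, he]
  · right; simp [quadPts, outside_class h2 hab hc hns hx he]

/-- The analytic step. -/
theorem split_ineq {n T q h : ℝ} (hh : 0 < h) (hT : 0 < T + q) (hT' : 0 < T - q)
    (hq : 2 * (T ^ 2 - q ^ 2) ≤ T * n) :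
    4 * h ≤ n * h ^ 2 / (h * (T + q)) + n * h ^ 2 / (h * (T - q)) := by
  have e : n * h ^ 2 / (h * (T + q)) + n * h ^ 2 / (h * (T - q)) = h * (2 * (T * n)) / ((T + q) * (T - q)) := by
    field_simp
    ring
  rw [e, le_div_iff₀ (mul_pos hT hT')]
  nlinarith

/-- The arithmetic step: the size of a class against the excess of orbits. -/
theorem class_arith {n k e A : ℕ} (he : 1 ≤ e) (hek : e ≤ k) (hk2 : 2 ≤ k)
    (hn2 : k = 2 → e = 2 → 7 ≤ n)
    (hn1 : k = 2 → e = 1 → 8 ≤ n ∧ n ≤ A + 5)
    (hn3 : k = 3 → 15 ≤ n) (hn4 : 4 ≤ k → 10 * k ≤ n)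
    (hA : n + 4 * e ≤ A + 5 * k) : (n + e) * e ≤ A ^ 2 := by
  rcases Nat.lt_or_ge k 4 with hk | hk
  · interval_cases k <;> interval_cases e
    · obtain ⟨h8, hA5⟩ := hn1 rfl rfl
      nlinarith [sq_nonneg ((A : ℤ) - 3), Nat.mul_le_mul hA5 hA5]
    · have := hn2 rfl rfl
      nlinarith
    · have := hn3 rfl
      nlinarith
    · have := hn3 rfl
      nlinarith
    · have := hn3 rfl
      nlinarith
  · have hn := hn4 hk
    have hA' : n + 4 * e - 5 * k ≤ A := by omega
    obtain ⟨u, hu⟩ : ∃ u, n = 5 * k + u := ⟨n - 5 * k, by omega⟩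
    subst hu
    have hA2 : u + 4 * e ≤ A := by omega
    have h5 : 5 * k ≤ u := by omega
    calc (5 * k + u + e) * e ≤ (u + u + e) * e := Nat.mul_le_mul_right e (by omega)
      _ ≤ (u + 4 * e) * (u + 4 * e) := by nlinarith
      _ ≤ A * A := Nat.mul_le_mul hA2 hA2
      _ = A ^ 2 := (sq A).symm

theorem big_pointwise {s c : ℕ} (hd : c ∣ s) (hlt : 2 * c < s) :
    3 * c ≤ s ∧ s + (if 4 * c = s then s else 0) ≤ 4 * (s - 2 * c) := by
  obtain ⟨l, rfl⟩ := hd
  have hl : 3 ≤ l := by
    by_contra hcon
    have : c * l ≤ c * 2 := Nat.mul_le_mul_left c (by omega)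
    omega
  have : c * 3 ≤ c * l := Nat.mul_le_mul_left c hl
  split <;> omega

/-- A subgroup with two-point transitive image containing a 3-cycle or swap contains every 3-cycle. -/
theorem exists_smul_of_small_support [FaithfulSMul G Ω] (h2 : IsTwoTrans G Ω) {g : G} (hg : g ≠ 1)
    {M : Finset Ω} (hM : ∀ x, g • x ≠ x → x ∈ M) (hcard : M.card ≤ 3)
    {u v w : Ω} (huv : u ≠ v) (huw : u ≠ w) (hvw : v ≠ w) :
    ∃ k : G, (∀ x, x ≠ u → x ≠ v → x ≠ w → k • x = x) ∧ k • u ≠ u ∧ (k • u = v ∨ k • u = w) := by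
  set R : Subgroup (Equiv.Perm Ω) := (toPermHom G Ω).range with hR
  have hprim : IsPreprimitive R Ω := by
    refine isPreprimitive_of_is_two_pretransitive (is_two_pretransitive_iff.2 fun {a b c d} hab hcd => ?_)
    obtain ⟨k, h1, h3⟩ := h2 a b c d hab hcd
    exact ⟨⟨toPermHom G Ω k, k, rfl⟩, h1, h3⟩
  have halt : alternatingGroup Ω ≤ R := by
    set σ := toPermHom G Ω g with hσ
    have hσ1 : σ ≠ 1 := fun h => hg <| eq_of_smul_eq_smul (α := Ω) fun x => by
      rw [one_smul]; exact Equiv.ext_iff.1 h x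
    have hsub : σ.support ⊆ M := fun x hx => hM x (Equiv.Perm.mem_support.1 hx)
    have h2le : 2 ≤ σ.support.card := Equiv.Perm.two_le_card_support_of_ne_one hσ1
    have hle := (Finset.card_le_card hsub).trans hcard
    rcases (by omega : σ.support.card = 2 ∨ σ.support.card = 3) with h | h
    · rw [Equiv.Perm.subgroup_eq_top_of_isPreprimitive_of_isSwap_mem hprim σ
        (Equiv.Perm.card_support_eq_two.1 h) ⟨g, rfl⟩]
      exact le_top
    · exact Equiv.Perm.alternatingGroup_le_of_isPreprimitive_of_isThreeCycle_mem hprim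
        (card_support_eq_three_iff.1 h) ⟨g, rfl⟩
  obtain ⟨k, hk⟩ := halt (Equiv.Perm.mem_alternatingGroup.2
    (Equiv.Perm.isThreeCycle_swap_mul_swap_same huv huw hvw).sign)
  have hk' : ∀ x, k • x = Equiv.swap u v (Equiv.swap u w x) := fun x => Equiv.ext_iff.1 hk x
  refine ⟨k, fun x h1 h3 h4 => by rw [hk', Equiv.swap_apply_of_ne_of_ne h1 h4, Equiv.swap_apply_of_ne_of_ne h1 h3], ?_, ?_⟩
  · rw [hk', Equiv.swap_apply_left, Equiv.swap_apply_of_ne_of_ne huw.symm hvw.symm]
    exact huw.symm
  · right
    rw [hk', Equiv.swap_apply_left, Equiv.swap_apply_of_ne_of_ne huw.symm hvw.symm]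

theorem two_mul_le_sum [Fintype G] [FaithfulSMul G Ω] (h2 : IsTwoTrans G Ω)
    (hn : 7 ≤ Fintype.card Ω) {a b : Ω} (hab : a ≠ b) (hs : 2 ≤ Nat.card (stab2 G a b)) :
    2 * (Nat.card (stab2 G a b) : ℝ) ≤ ∑ g ∈ Finset.univ.filter (· ∈ stab2 G a b),
      (Fintype.card Ω : ℝ) / ((fixPts Ω g).card : ℝ) := by
  set S := stab2 G a b with hS
  set s := Nat.card S with hsdef
  set n := Fintype.card Ω with hndef
  set k := (line G a b).card with hkdef
  set F := Finset.univ.filter (· ∈ S) with hFdef
  have hFcard : F.card = s := card_mem_filter S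
  have hk2 : 2 ≤ k := by
    rw [← Finset.card_pair hab]
    exact Finset.card_le_card (by simp [Finset.insert_subset_iff, left_mem_line, right_mem_line])
  have hπ : ∀ g ∈ F, k ≤ (fixPts Ω g).card := fun g hg =>
    Finset.card_le_card (line_subset_fixPts (Finset.mem_filter.1 hg).2)
  obtain ⟨T, hT⟩ := sum_fixPts_eq_mul (Ω := Ω) S
  rw [← hFdef, ← hsdef] at hT
  have hspos : 0 < s := by omega
  have hTk : k ≤ T := by
    have : k * s ≤ T * s := by
      rw [← hT, mul_comm, ← hFcard]
      exact (Finset.card_nsmul_le_sum F _ k hπ).trans' (by simp [smul_eq_mul])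
    exact Nat.le_of_mul_le_mul_right this hspos
  have hTR : (∑ g ∈ F, ((fixPts Ω g).card : ℝ)) = (T : ℝ) * s := by exact_mod_cast congrArg (Nat.cast : ℕ → ℝ) hT
  by_cases hle : 2 * T ≤ n
  · refine le_trans ?_ (mul_sq_div_le_sum_div F fun g hg => by have := hπ g hg; omega)
    rw [hFcard, hTR, le_div_iff₀ (by have : (0:ℕ) < T := by omega
                                     positivity)]
    have hle' : 2 * (T : ℝ) ≤ n := by exact_mod_cast hle
    nlinarith [sq_nonneg (s : ℝ), mul_le_mul_of_nonneg_right hle' (sq_nonneg (s : ℝ))]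
  by_cases hsemi : ∀ g ∈ S, g ≠ 1 → fixPts Ω g = line G a b
  · have h1F : (1 : G) ∈ F := by simp [hFdef]
    have hval : ∀ g ∈ F.erase 1, (fixPts Ω g).card = k := fun g hg => by
      obtain ⟨hg1, hg⟩ := Finset.mem_erase.1 hg
      rw [hsemi g (Finset.mem_filter.1 hg).2 hg1]
    have h1 : fixPts Ω (1 : G) = Finset.univ := by ext; simp [mem_fixPts]
    have hsum1 : n + (s - 1) * k = T * s := by
      rw [← hT, ← Finset.add_sum_erase F _ h1F, Finset.sum_congr rfl hval, h1, Finset.card_univ,
        Finset.sum_const, Finset.card_erase_of_mem h1F, hFcard, smul_eq_mul]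
    rw [← Finset.add_sum_erase F _ h1F, h1, Finset.card_univ, ← hndef,
      Finset.sum_congr rfl (fun g hg => by rw [hval g hg]), Finset.sum_const,
      Finset.card_erase_of_mem h1F, hFcard, nsmul_eq_mul, div_self (by positivity)]
    obtain ⟨t, ht⟩ : ∃ t, s = t + 1 := ⟨s - 1, by omega⟩
    have key : (2 * t + 1) * k ≤ t * n := by
      rw [ht] at hsum1 hs
      simp only [Nat.add_sub_cancel] at hsum1
      rcases Nat.eq_or_lt_of_le hk2 with hk | hk
      · rw [← hk]; nlinarith
      · obtain ⟨g, hg, hg1⟩ : ∃ g ∈ F, g ≠ 1 := Finset.exists_mem_ne (by omega) 1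
        obtain ⟨ω, hω⟩ : ∃ ω : Ω, g • ω ≠ ω := by
          by_contra hcon
          push Not at hcon
          exact hg1 (eq_of_smul_eq_smul (α := Ω) fun x => by rw [hcon, one_smul])
        have hb := card_fixPts_mul h2 hab hω
        rw [hval g (Finset.mem_erase.2 ⟨hg1, hg⟩), ← hndef, ← hkdef] at hb
        obtain ⟨j, hj⟩ : ∃ j, k = j + 3 := ⟨k - 3, by omega⟩
        rw [hj, show j + 3 - 1 = j + 2 by omega] at hb
        rw [hj]
        rcases Nat.eq_zero_or_pos j with rfl | hjpos
        · -- lines of three points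
          by_cases ht1 : t = 1
          · subst ht1
            by_contra hcon
            have h78 : n = 7 ∨ n = 8 := by omega
            rcases h78 with h7 | h8
            · exact not_fano h2 hab (hndef.symm.trans h7) (hkdef.symm.trans hj) (hsdef.symm.trans ht) hsemi
            · omega
          · by_cases ht2 : t = 2
            · subst ht2; omega
            · have := Nat.mul_le_mul_left t (show 7 ≤ n by omega)
              omega
        · have h3 : 3 * (j + 3) ≤ n := by nlinarith
          have := Nat.mul_le_mul_left t h3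
          nlinarith
    have hk0 : (0 : ℝ) < k := by exact_mod_cast (by omega : 0 < k)
    rw [ht]
    simp only [Nat.add_sub_cancel]
    have key' : (2 * (t : ℝ) + 1) * k ≤ t * n := by exact_mod_cast key
    have : 2 * (t : ℝ) + 1 ≤ t * ((n : ℝ) / k) := by
      rw [← mul_div_assoc, le_div_iff₀ hk0]; exact key'
    push_cast
    linarith
  -- the hard case
  push Not at hsemi
  obtain ⟨g₀, hg₀, hg₀1, hg₀fix⟩ := hsemi
  obtain ⟨ω₀, hω₀⟩ : ∃ ω : Ω, g₀ • ω ≠ ω := by
    by_contra hcon
    push Not at hcon
    exact hg₀1 (eq_of_smul_eq_smul (α := Ω) fun x => by rw [hcon, one_smul])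
  obtain ⟨ω₁, hω₁L, hω₁⟩ : ∃ ω, ω ∉ line G a b ∧ g₀ • ω = ω := by
    by_contra hcon
    push Not at hcon
    apply hg₀fix
    refine Finset.Subset.antisymm (fun x hx => ?_) (line_subset_fixPts hg₀)
    by_contra hxl
    exact hcon x hxl (mem_fixPts.1 hx)
  have hbound := card_fixPts_mul h2 hab hω₀
  have hbound2 := card_fixPts_ge h2 hab hg₀ hω₁L hω₁
  rw [← hndef, ← hkdef] at hbound
  rw [← hkdef] at hbound2
  have hn3 : k = 3 → 15 ≤ n := fun hk => by
    rw [hk] at hbound hbound2
    omega
  have hn4 : 4 ≤ k → 10 * k ≤ n := fun hk => by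
    have h' := Nat.mul_le_mul_right (k - 1) hbound2
    obtain ⟨j, hj⟩ : ∃ j, k = j + 4 := ⟨k - 4, by omega⟩
    rw [hj, show j + 4 - 1 = j + 3 by omega] at h' hbound
    rw [hj]
    have h12 : 4 * 3 ≤ (j + 4) * (j + 3) := Nat.mul_le_mul (by omega) (by omega)
    have h13 : 13 * (j + 3) ≤ ((j + 4) * (j + 3) + 1) * (j + 3) := Nat.mul_le_mul_right _ (by omega)
    omega
  obtain ⟨e, he⟩ : ∃ e, 2 * T = n + e := ⟨2 * T - n, by omega⟩
  have he1 : 1 ≤ e := by omega
  set c := fun x : Ω => Nat.card (stab3 G a b x) with hcdef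
  have hcs : ∑ x : Ω, c x = T * s := (sum_fixPts_eq S).symm.trans hT
  have hcl : ∀ x, c x = s ↔ x ∈ line G a b := card_stab3_eq_iff a b
  have hcnot : ∀ x, x ∉ line G a b → 2 * c x ≤ s := fun x hx => two_mul_card_stab3_le hx
  set U := pairPts G a b with hUdef
  set B := bigPts G a b with hBdef
  set N := quadPts G a b with hNdef
  have hD : e * s + ∑ x ∈ B, (s - 2 * c x) = k * s := by
    have hpt : ∀ x : Ω, 2 * c x + (if x ∈ B then s - 2 * c x else 0) = s + (if x ∈ line G a b then s else 0) := by
      intro x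
      by_cases hx : x ∈ line G a b
      · have h1 := (hcl x).2 hx
        have h3 : x ∉ B := by
          simp only [hBdef, bigPts, Finset.mem_filter, not_and, not_lt]
          intro _
          change s ≤ 2 * c x
          omega
        rw [if_neg h3, if_pos hx]; omega
      · have h1 := hcnot x hx
        rw [if_neg hx]
        by_cases hB : x ∈ B
        · rw [if_pos hB]; omega
        · rw [if_neg hB]
          simp only [hBdef, bigPts, Finset.mem_filter, Finset.mem_univ, true_and, not_lt] at hB
          change s ≤ 2 * c x at hB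
          omega
    have h := Finset.sum_congr rfl (fun x (_ : x ∈ Finset.univ) => hpt x)
    rw [Finset.sum_add_distrib, Finset.sum_add_distrib, ← Finset.mul_sum, hcs, Finset.sum_ite_mem,
      Finset.sum_ite_mem, Finset.univ_inter, Finset.univ_inter, Finset.sum_const, Finset.sum_const,
      Finset.card_univ, smul_eq_mul, smul_eq_mul, ← mul_assoc, he, ← hkdef, ← hndef] at h
    nlinarith [h]
  have hek : e ≤ k := Nat.le_of_mul_le_mul_right (by omega : e * s ≤ k * s) hspos
  have hBc : ∀ x ∈ B, 3 * c x ≤ s ∧ s + (if 4 * c x = s then s else 0) ≤ 4 * (s - 2 * c x) := fun x hx =>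
    big_pointwise (Subgroup.card_dvd_of_le inf_le_left) (Finset.mem_filter.1 hx).2
  have hN : N = B.filter (fun x => 4 * c x = s) := by
    ext x
    simp only [hNdef, quadPts, hBdef, bigPts, Finset.mem_filter, Finset.mem_univ, true_and]
    change 4 * c x = s ↔ 2 * c x < s ∧ 4 * c x = s
    have : 0 < c x := Nat.card_pos
    omega
  have hDe : ∑ x ∈ B, (s - 2 * c x) = (k - e) * s := by rw [Nat.sub_mul]; omega
  have hBN : B.card + N.card ≤ 4 * (k - e) := by
    refine Nat.le_of_mul_le_mul_right ?_ hspos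
    rw [mul_assoc, ← hDe, Finset.mul_sum]
    refine le_trans (le_of_eq ?_) (Finset.sum_le_sum fun x hx => (hBc x hx).2)
    rw [Finset.sum_add_distrib, ← Finset.sum_filter, ← hN, Finset.sum_const, Finset.sum_const,
      smul_eq_mul, smul_eq_mul, add_mul]
  have hB3 : B.card ≤ 3 * (k - e) := by
    refine Nat.le_of_mul_le_mul_right ?_ hspos
    rw [mul_assoc, ← hDe, Finset.mul_sum, ← smul_eq_mul, ← Finset.sum_const]
    exact Finset.sum_le_sum fun x hx => by have := (hBc x hx).1; omega
  have hpart : k + U.card + B.card = n := by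
    rw [hkdef, ← Finset.card_union_of_disjoint, ← Finset.card_union_of_disjoint, hndef, ← Finset.card_univ]
    · congr 1
      ext x
      simp only [Finset.mem_union, hUdef, pairPts, hBdef, bigPts, Finset.mem_filter, Finset.mem_univ, true_and, iff_true]
      by_cases hx : x ∈ line G a b
      · exact Or.inl (Or.inl hx)
      · rcases Nat.eq_or_lt_of_le (hcnot x hx) with h | h
        · exact Or.inl (Or.inr h)
        · exact Or.inr h
    · rw [Finset.disjoint_left]
      intro x hx hB
      have hlt : 2 * c x < s := (Finset.mem_filter.1 hB).2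
      rcases Finset.mem_union.1 hx with h | h
      · have := (hcl x).2 h; omega
      · have h' : 2 * c x = s := (Finset.mem_filter.1 h).2
        omega
    · rw [Finset.disjoint_left]
      intro x hx hU
      have h' : 2 * c x = s := (Finset.mem_filter.1 hU).2
      have := (hcl x).2 hx
      omega
  have hk2e1 : k = 2 → e = 1 → B.card ≤ 3 ∧ N.card = 0 := by
    intro hk he'
    refine ⟨by omega, ?_⟩
    rw [Finset.card_eq_zero, Finset.eq_empty_iff_forall_notMem]
    intro x hx
    have hx4 : 4 * c x = s := (Finset.mem_filter.1 hx).2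
    have hxB : x ∈ B := (Finset.mem_filter.1 (hN ▸ hx)).1
    let O : Finset Ω := Finset.univ.filter fun y => y ∈ orbit S x
    have hOcard : O.card = 4 := by
      have h1 := card_orbit_mul_card_stab3 (G := G) a b x
      rw [← hS, ← hsdef] at h1
      have h1' : Nat.card (orbit S x) * c x = 4 * c x := h1.trans hx4.symm
      rw [← Nat.card_eq_finsetCard]
      rw [← Nat.eq_of_mul_eq_mul_right Nat.card_pos h1']
      exact Nat.card_congr (Equiv.subtypeEquivRight fun y => by simp [O])
    have hOB : ∀ y ∈ O, y ∈ B ∧ s - 2 * c y = 2 * c x := by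
      intro y hy
      obtain ⟨g, rfl⟩ := (Finset.mem_filter.1 hy).2
      have hcy : c (g • x) = c x := by
        have := card_stab3_smul (g : G) a b x
        rwa [g.2.1, g.2.2] at this
      have hxlt : 2 * c x < s := (Finset.mem_filter.1 hxB).2
      refine ⟨Finset.mem_filter.2 ⟨Finset.mem_univ _, ?_⟩, by rw [hcy]; omega⟩
      change 2 * c (g • x) < s
      rw [hcy]; exact hxlt
    have hsum := Finset.sum_le_sum_of_subset (f := fun y => s - 2 * c y) (fun y hy => (hOB y hy).1 : O ⊆ B)
    rw [Finset.sum_congr rfl fun y hy => (hOB y hy).2, Finset.sum_const, hOcard, hDe, smul_eq_mul] at hsum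
    rw [hk, he'] at hsum
    omega
  have hUne : U.Nonempty := by
    rw [← Finset.card_pos]
    rcases Nat.lt_or_ge k 4 with hk | hk
    · interval_cases k <;> omega
    · have := hn4 hk; omega
  obtain ⟨γ, hγ⟩ := hUne
  have hγ2 : 2 * c γ = s := (Finset.mem_filter.1 hγ).2
  set X := stab3 G a b γ with hXdef
  have hA : U.card ≤ (classPts G a b X).card + N.card := by
    rcases not_special_both h2 hab hγ2 with h | h
    · exact class_lower h2 hab hγ h
    · have e1 : pairPts G b a = pairPts G a b := by simp [pairPts, stab3_comm b a, stab2_comm b a]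
      have e2 : quadPts G b a = quadPts G a b := by simp [quadPts, stab3_comm b a, stab2_comm b a]
      have e3 : classPts G b a X = classPts G a b X := by simp [classPts, stab3_comm b a, stab2_comm b a]
      have := class_lower h2 hab.symm (c := γ) (by rw [e1]; exact hγ) h
      rwa [e1, e2, stab3_comm b a γ, ← hXdef, e3] at this
  set A := classPts G a b X with hAdef
  by_cases hspecial : n = 7 ∧ k = 2 ∧ e = 1
  · -- the smallest case contradicts Jordan's theorem
    exfalso
    obtain ⟨h7, hk, he'⟩ := hspecial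
    obtain ⟨hB3', hN0⟩ := hk2e1 hk he'
    have hAU : A = U := by
      refine Finset.eq_of_subset_of_card_le (fun x hx => ?_) (by omega)
      exact Finset.mem_filter.2 ⟨Finset.mem_univ _, (Finset.mem_filter.1 hx).2.1⟩
    obtain ⟨x, hxX, hx1⟩ : ∃ x ∈ X, x ≠ 1 := by
      by_contra hcon
      push Not at hcon
      have hX1 : c γ = 1 := (Subgroup.card_eq_one).2 ((Subgroup.eq_bot_iff_forall _).2 hcon)
      -- the stabiliser has order two, so it is semiregular
      have hs2 : s = 2 := by omega
      have h3 : g₀ ∈ stab3 G a b ω₁ := ⟨hg₀, hω₁⟩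
      have h4 : 1 < c ω₁ := Finite.one_lt_card_iff_nontrivial.2 ⟨⟨⟨g₀, h3⟩, 1, fun h => hg₀1 (congrArg Subtype.val h)⟩⟩
      have := hcnot ω₁ hω₁L
      omega
    have hM : ∀ y, x • y ≠ y → y ∈ B := by
      intro y hy
      have hyL : y ∉ line G a b := fun h => hy (mem_line.1 h x hxX.1)
      rcases Nat.eq_or_lt_of_le (hcnot y hyL) with h | h
      · exfalso
        have hyA : y ∈ A := by rw [hAU]; exact Finset.mem_filter.2 ⟨Finset.mem_univ _, h⟩
        have := (Finset.mem_filter.1 hyA).2.2
        exact hy (this.symm ▸ hxX : x ∈ stab3 G a b y).2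
      · exact Finset.mem_filter.2 ⟨Finset.mem_univ _, h⟩
    obtain ⟨d, hd, d', hd', hdd⟩ : ∃ d ∈ B, ∃ d' ∈ B, d ≠ d' := by
      obtain ⟨y, hy⟩ : ∃ y, x • y ≠ y := by
        by_contra hcon
        push Not at hcon
        exact hx1 (eq_of_smul_eq_smul (α := Ω) fun z => by rw [hcon, one_smul])
      exact ⟨y, hM y hy, x • y, hM _ (fun h => hy (MulAction.injective x h)), fun h => hy h.symm⟩
    have hBne : ∀ z ∈ B, z ≠ γ := fun z hz h => by
      have : 2 * c z < s := (Finset.mem_filter.1 hz).2
      rw [h] at this; omega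
    obtain ⟨g, hgfix, -, hgγ⟩ := exists_smul_of_small_support h2 hx1 hM hB3'
      (hBne d hd).symm (hBne d' hd').symm hdd
    have hna : ∀ z ∈ B, z ∉ line G a b := fun z hz h => by
      have : 2 * c z < s := (Finset.mem_filter.1 hz).2
      have := (hcl z).2 h; omega
    have hgS : g ∈ S := by
      refine ⟨hgfix a ?_ ?_ ?_, hgfix b ?_ ?_ ?_⟩
      · exact fun h => ne_left_of_two_mul hγ2 (h ▸ left_mem_line a b)
      · exact fun h => hna d hd (h ▸ left_mem_line a b)
      · exact fun h => hna d' hd' (h ▸ left_mem_line a b)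
      · exact fun h => ne_left_of_two_mul hγ2 (h ▸ right_mem_line a b)
      · exact fun h => hna d hd (h ▸ right_mem_line a b)
      · exact fun h => hna d' hd' (h ▸ right_mem_line a b)
    have hgγB : g • γ ∈ B := by rcases hgγ with h | h <;> rw [h] <;> assumption
    have hcg : c (g • γ) = c γ := by
      have := card_stab3_smul g a b γ
      rwa [hgS.1, hgS.2] at this
    have : 2 * c (g • γ) < s := (Finset.mem_filter.1 hgγB).2
    omega
  have harith : (n + e) * e ≤ A.card ^ 2 := by
    refine class_arith he1 hek hk2 (fun _ _ => hn) (fun hk he' => ?_) hn3 hn4 (by omega)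
    obtain ⟨h3, h0⟩ := hk2e1 hk he'
    constructor
    · by_contra hcon
      exact hspecial ⟨by omega, hk, he'⟩
    · omega
  -- split along `X`
  have hXS : X ≤ S := inf_le_left
  set FX := F.filter (· ∈ X) with hFXdef
  set FY := F.filter (· ∉ X) with hFYdef
  have hFXeq : FX = Finset.univ.filter (· ∈ X) := by
    ext g; simp only [hFXdef, hFdef, Finset.mem_filter, Finset.mem_univ, true_and]
    exact ⟨fun h => h.2, fun h => ⟨hXS h, h⟩⟩
  have hFXc : FX.card = c γ := by rw [hFXeq]; exact card_mem_filter X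
  have hFYc : FY.card = c γ := by
    have := Finset.card_filter_add_card_filter_not (s := F) (· ∈ X)
    rw [← hFXdef, ← hFYdef, hFXc, hFcard] at this
    omega
  have hdiff : A.card * c γ + T * s ≤ 2 * ∑ g ∈ FX, (fixPts Ω g).card := by
    rw [hFXeq, sum_fixPts_eq, ← hcs, Finset.mul_sum, ← smul_eq_mul, ← Finset.sum_const,
      ← Finset.univ_inter A, ← Finset.sum_ite_mem, ← Finset.sum_add_distrib]
    refine Finset.sum_le_sum fun x _ => ?_
    split
    · next hx =>
      obtain ⟨hx2, hxX⟩ := (Finset.mem_filter.1 hx).2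
      have e1 : X ⊓ stabilizer G x = X := by rw [inf_eq_left, ← hxX]; exact inf_le_right
      rw [e1]
      change c γ + c x ≤ 2 * c γ
      have : 2 * c x = s := hx2
      omega
    · rw [zero_add]
      change c x ≤ 2 * Nat.card ↥(X ⊓ stabilizer G x)
      have hrel : X.relIndex S * Nat.card (S ⊓ X : Subgroup G) = s := relIndex_mul_card_inf S X
      rw [inf_eq_right.2 hXS] at hrel
      have hr2 : X.relIndex S = 2 := Nat.eq_of_mul_eq_mul_right Nat.card_pos (hrel.trans hγ2.symm)
      have hr := relIndex_mul_card_inf (stab3 G a b x) X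
      have hle' : X.relIndex (stab3 G a b x) ≤ 2 := hr2 ▸
        Subgroup.relIndex_le_of_le_right inf_le_left Subgroup.index_ne_zero_of_finite
      have heq : stab3 G a b x ⊓ X = X ⊓ stabilizer G x := by
        rw [stab3, inf_right_comm, inf_eq_right.2 hXS]
      rw [← heq]
      have := Nat.mul_le_mul_right (Nat.card ↥(stab3 G a b x ⊓ X)) hle'
      rw [hr] at this
      exact this
  have hsplit : ∑ g ∈ FX, (fixPts Ω g).card + ∑ g ∈ FY, (fixPts Ω g).card = T * s := by
    rw [hFXdef, hFYdef, Finset.sum_filter_add_sum_filter_not, hT]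
  have hγpos : (0 : ℝ) < c γ := by exact_mod_cast Nat.card_pos
  have hposX : ∀ g ∈ FX, 0 < (fixPts Ω g).card := fun g hg => by
    have := hπ g (Finset.mem_filter.1 hg).1; omega
  have hposY : ∀ g ∈ FY, 0 < (fixPts Ω g).card := fun g hg => by
    have := hπ g (Finset.mem_filter.1 hg).1; omega
  set PX : ℝ := ∑ g ∈ FX, ((fixPts Ω g).card : ℝ) with hPX
  set PY : ℝ := ∑ g ∈ FY, ((fixPts Ω g).card : ℝ) with hPY
  have hsum : PX + PY = (T : ℝ) * s := by
    rw [hPX, hPY, hFXdef, hFYdef, Finset.sum_filter_add_sum_filter_not, hTR]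
  have hdiff' : (A.card : ℝ) * c γ + (T : ℝ) * s ≤ 2 * PX := by
    rw [hPX, ← Nat.cast_sum]; exact_mod_cast hdiff
  have hPYpos : 0 < PY := Finset.sum_pos (fun g hg => by exact_mod_cast hposY g hg)
    (Finset.card_pos.1 (by rw [hFYc]; exact Nat.card_pos))
  have hs' : (s : ℝ) = 2 * c γ := by exact_mod_cast hγ2.symm
  obtain ⟨q, hq⟩ : ∃ q : ℝ, PX = c γ * ((T : ℝ) + q) := ⟨PX / c γ - T, by field_simp; ring⟩
  have hqY : PY = c γ * ((T : ℝ) - q) := by rw [hs'] at hsum; linarith
  have hTq' : 0 < (T : ℝ) - q := by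
    have := hPYpos; rw [hqY] at this
    exact pos_of_mul_pos_right this hγpos.le
  have hqA : (A.card : ℝ) ≤ 2 * q := by
    rw [hq, hs'] at hdiff'
    exact le_of_mul_le_mul_right (by linarith : (A.card : ℝ) * c γ ≤ 2 * q * c γ) hγpos
  have hq0 : 0 ≤ q := by have : (0 : ℝ) ≤ A.card := Nat.cast_nonneg _; linarith
  have hTq : 0 < (T : ℝ) + q := by linarith
  have harith' : ((n : ℝ) + e) * e ≤ (2 * q) ^ 2 := by
    have h1 : ((n : ℝ) + e) * e ≤ (A.card : ℝ) ^ 2 := by exact_mod_cast harith
    have h3 : (A.card : ℝ) ^ 2 ≤ (2 * q) ^ 2 := by nlinarith [Nat.cast_nonneg (α := ℝ) A.card]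
    linarith
  have he' : 2 * (T : ℝ) = n + e := by exact_mod_cast he
  have hmain := split_ineq (n := (n : ℝ)) hγpos hTq hTq' (by nlinarith)
  have hX := mul_sq_div_le_sum_div FX hposX
  have hY := mul_sq_div_le_sum_div FY hposY
  rw [hFXc, ← hndef, ← hPX, hq] at hX
  rw [hFYc, ← hndef, ← hPY, hqY] at hY
  rw [← Finset.sum_filter_add_sum_filter_not F (· ∈ X), hs']
  linarith

end CfsgLib.PermDerange
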